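import Cfsg.Agent.E8.R

/-! The kernel and the image of the reduction. -/

set_option autoImplicit false

namespace E8
open Matrix Equiv Cfsg

theorem rd_e4 (i : Fin 8) : rd ((4 : ℚ) • ee i) = dv 1 := by
  have : (4 : ℚ) • ee i = ci fun j => if j = i then 4 else 0 := funext fun j => by
    by_cases h : j = i <;> simp [ci, ee_apply, h]
  rw [this, rd_ci (by clear this; revert i; decide)]
  clear this; revert i; decide +kernel

theorem int_unit {u : Z8} (h : ∑ i, u i * u i = 1) : ∃ j, ∀ k, k ≠ j → u k = 0 := by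
  by_contra hc
  push Not at hc
  obtain ⟨j, -, hj⟩ := hc 0
  obtain ⟨k, hk, hk'⟩ := hc j
  have h1 := Finset.sum_le_sum_of_subset_of_nonneg (f := fun i => u i * u i)
    (Finset.subset_univ {k, j}) fun i _ _ => mul_self_nonneg (u i)
  rw [Finset.sum_pair hk, h] at h1
  have := mul_self_pos.2 hj
  have := mul_self_pos.2 hk'
  omega

theorem mono_of_fix {A : O} (hA : A ∈ W) (h : a2 (red ⟨A, hA⟩) (dv 1) = dv 1) :
    ∃ π v, A = mono π v := by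
  refine exists_mono fun i => ?_
  have h1 := red_rd ⟨A, hA⟩ (e4_mem i)
  rw [rd_e4, h, ← rd_e4 0] at h1
  obtain ⟨_, ⟨n, rfl, hn⟩, e⟩ := rd_eq (hA _ (e4_mem i)) (e4_mem 0) h1.symm
  have e1 : ∀ k, ap A (ee i) k = ((if k = 0 then 2 else 0) + n k : ℤ) / 2 := fun k => by
    have := congrFun e k
    rw [ap_smul] at this
    simp only [Pi.smul_apply, Pi.add_apply, smul_eq_mul, ee_apply 0, ci_apply] at this
    push_cast
    split_ifs at this ⊢ <;> linarith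
  set m : Z8 := fun k => (if k = 0 then 2 else 0) + n k with hm
  have e2 : ∑ k, m k * m k = 4 := by
    have := dot_ap A (ee i) (ee i)
    rw [dot_ee, ee_self, dotProduct] at this
    simp only [e1] at this
    have h3 : ((∑ k, m k * m k : ℤ) : ℚ) = 4 := by
      rw [Int.cast_sum, ← mul_one (4 : ℚ), ← this, Finset.mul_sum]
      exact Finset.sum_congr rfl fun k _ => by simp only [hm]; push_cast; ring
    exact_mod_cast h3
  have e3 : ∀ k, m k % 2 = n 0 % 2 := fun k => by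
    have := hn.1 k
    simp only [hm]; split_ifs <;> omega
  rcases Int.emod_two_eq_zero_or_one (n 0) with p | p
  · obtain ⟨u, hu⟩ : ∃ u : Z8, ∀ k, m k = 2 * u k :=
      ⟨fun k => m k / 2, fun k => by have := e3 k; dsimp only; omega⟩
    obtain ⟨j, hj⟩ := int_unit (u := u) (by
      simp only [hu, Fin.sum_univ_eight] at e2 ⊢
      linarith)
    refine ⟨j, fun k hk => ?_⟩
    have : m k = 0 := by rw [hu, hj k hk]; rfl
    rw [e1]; simp only [hm] at this; rw [this]; simp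
  · have : ∑ _k : Fin 8, (1 : ℤ) ≤ ∑ k, m k * m k := Finset.sum_le_sum fun k _ => by
      have := e3 k
      have := mul_self_pos.2 (show m k ≠ 0 by omega)
      omega
    rw [e2] at this
    simp at this

theorem fix_mono {π : S8} {v : B8} (h : mono π v ∈ W) : a2 (red ⟨_, h⟩) (dv 1) = dv 1 := by
  have h1 := red_rd ⟨_, h⟩ (e4_mem 0)
  rw [rd_e4] at h1
  rw [h1, ap_smul, ap_mono_ee, smul_comm]
  rcases z2 (v (π 0)) with e | e <;> rw [e]
  · rw [sn_zero, one_smul, rd_e4]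
  · rw [sn_one, neg_smul, one_smul, rd_neg (e4_mem _), rd_e4]

theorem root_s2 {i j : Fin 8} (h : i ≠ j) : Root ((2 : ℚ) • ee i + (2 : ℚ) • ee j) :=
  ⟨s2_mem i j, by
    simp only [add_dotProduct, dotProduct_add, smul_dotProduct, dotProduct_smul, dot_ee, ee_self,
      ee_ne h, ee_ne h.symm, smul_eq_mul]
    norm_num⟩

theorem third : ∀ k l : Fin 8, ∃ j, j ≠ k ∧ j ≠ l := by decide

theorem red_ker {A : O} (hA : A ∈ W) (h : red ⟨A, hA⟩ = 1) : A = 1 ∨ A = ng := by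
  obtain ⟨π, v, rfl⟩ := mono_of_fix hA (by rw [h, a2_one])
  have key : ∀ i j, i ≠ j → ∃ a, ∀ k, sn (v k) * (ee i (π⁻¹ k) + ee j (π⁻¹ k)) =
      sn a * (ee i k + ee j k) := fun i j hij => by
    have h1 := red_rd ⟨_, hA⟩ (s2_mem i j)
    rw [h, a2_one] at h1
    rcases root_eq ((root_s2 hij).map hA) (root_s2 hij) h1.symm with e | e
    · refine ⟨0, fun k => ?_⟩
      have := congrFun e k
      simp only [ap_mono, Pi.add_apply, Pi.smul_apply, smul_eq_mul] at this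
      rw [sn_zero]; linarith
    · refine ⟨1, fun k => ?_⟩
      have := congrFun e k
      simp only [ap_mono, Pi.add_apply, Pi.smul_apply, smul_eq_mul, Pi.neg_apply] at this
      rw [sn_one]; linarith
  have h1 : ∀ k, π⁻¹ k = k := fun k => by
    by_contra hc
    obtain ⟨j, h1, h2⟩ := third k (π⁻¹ k)
    obtain ⟨a, ha⟩ := key (π⁻¹ k) j h2.symm
    have := ha k
    rw [ee_self, ee_ne h2.symm, ee_ne (Ne.symm hc), ee_ne h1.symm] at this
    exact sn_ne (v k) (by simpa using this)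
  have h2 : ∀ k, v k = v 0 := fun k => by
    by_cases hk : k = 0
    · rw [hk]
    obtain ⟨a, ha⟩ := key k 0 hk
    have e1 := ha k
    have e2 := ha 0
    rw [h1, ee_self, ee_ne hk] at e1
    rw [h1, ee_self, ee_ne (Ne.symm hk)] at e2
    exact sn_inj (by linarith)
  have h3 : π = 1 := inv_eq_one.1 (Equiv.ext h1)
  subst h3
  rcases z2 (v 0) with e | e
  · left; rw [← mono_one]; congr 1; exact funext fun i => (h2 i).trans e
  · right; rw [ng, sg]; congr 1; exact funext fun i => (h2 i).trans e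

theorem red_ng : red ⟨ng, ng_mem⟩ = 1 := O2_ext' fun x hx => by
  rw [red_rd _ hx, ap_ng, rd_neg hx, a2_one]

/-- a table of roots -/
def rtT : ℕ := 0xb6d6edb5badd0000006ddaed0000000000006eb6ddadb76d000000000000aedb5d00000076bb6d75d75d000000924da49245a40000000000000000000000009349269149260000000000009a49348a4934d26924526924000000000000aebadd000000add6ed00000000000075b6dd00000076daed000000b5db5d000000b6b76d6ed75d0000006dbb6d0000000000000000000000000000009a49268a4926d249a45249a4934934914934926d24922d2400000000000000000000000076b75d00000000000075db6dadbb5d000000000000aed76d0000006dd6dd6ebaed000000000000b6daddb5b6ed000000000000000000d349245349240000000000009a4d248a4d249269269229260000000000009249b49248b40000000000000000006edb6d0000006db75d000000b5d76d000000b6bb5d75baed00000076d6dd000000aeb6ed000000addadd000000da49245a49249249a69248a6934d24914d249269349229340000000000000000000000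00000000000000000000000000add75d000000000000aebb6d00000076db5d75b76d000000b6b6dd000000000000b5daed0000006dbadd6ed6ed0000000000000000009a69248a6924d249345249340000000000000000000000009349a49149a4924d26924526000000000000000000b5bb6d000000b6d75d6eb76d0000006ddb5d000000000000aedaed000000adb6dd75d6ed00000076badd000000936924916924924d349245340000000000000000000000009a49a48a49a4d249265249260000000000000000000000000000006db6ed6edadd000000000000b6baedb5d6dd00000000000076d76d75bb5d000000000000addb6daeb75d0000009249369249160000000000009269a49229a4000000000000d24d24524d240000000000009b49248b492400000000000075dadd00000076b6ed000000aed6dd000000adbaed0000006ebb5d0000006dd76d000000b5b75d000000b6db6d000000000000000000000000000000000000000000000000000000000000000000000000000000000000000000000000000000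
/-- the root with a given class -/
def rt (n : ℕ) : Z8 := fun i => ((rtT >>> (24 * n + 3 * i) % 8 : ℕ) : ℤ) - 4
theorem rt_spec : ∀ n < 256, qn n = true →
    LI (rt n) ∧ ∑ i, rt n i * rt n i = 8 ∧ c2 (crd (rt n)) = dv n := by decide +kernel

theorem exists_root {v : V} (h : QQ v = 1) : ∃ x, Root x ∧ rd x = v := by
  obtain ⟨n, hn, rfl⟩ := exists_dv v
  rw [Q_dv n hn] at h
  obtain ⟨h1, h2, h3⟩ := rt_spec n hn (by
    by_contra hc
    rw [if_neg hc] at h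
    exact absurd h (by decide))
  exact ⟨ci (rt n), ⟨ci_mem h1, by rw [ci_dot, h2]; simp⟩, by rw [rd_ci h1, h3]⟩

/-- simple roots as columns -/
def AZ : Matrix (Fin 8) (Fin 8) ℤ :=
  !![1, 2, -2, 0, 0, 0, 0, 0; -1, 2, 2, -2, 0, 0, 0, 0; -1, 0, 0, 2, -2, 0, 0, 0;
    -1, 0, 0, 0, 2, -2, 0, 0; -1, 0, 0, 0, 0, 2, -2, 0; -1, 0, 0, 0, 0, 0, 2, -2;
    -1, 0, 0, 0, 0, 0, 0, 2; 1, 0, 0, 0, 0, 0, 0, 0]
/-- the lattice basis in terms of simple roots -/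
def TZ : Matrix (Fin 8) II ℤ := Matrix.of fun i k =>
  !![0, -2, 2, 0, -1, 2, 0, 0; 1, -2, 4, 2, -2, 4, 2, 0; -1, -4, 5, 2, -4, 4, 1, 0;
    0, -5, 8, 4, -5, 7, 3, -1; 0, -5, 7, 3, -4, 5, 3, 0; 0, -4, 5, 3, -3, 4, 2, 0;
    0, -3, 4, 2, -2, 3, 2, 0; 0, -2, 2, 1, -1, 1, 1, 1] i (ix k)
/-- the Gram matrix -/
def gm : Matrix (Fin 8) (Fin 8) ℤ :=
  !![2, 0, -1, 0, 0, 0, 0, 0; 0, 2, 0, -1, 0, 0, 0, 0; -1, 0, 2, -1, 0, 0, 0, 0;
    0, -1, -1, 2, -1, 0, 0, 0; 0, 0, 0, -1, 2, -1, 0, 0; 0, 0, 0, 0, -1, 2, -1, 0;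
    0, 0, 0, 0, 0, -1, 2, -1; 0, 0, 0, 0, 0, 0, -1, 2]
/-- classes of the simple roots -/
def av (i : Fin 8) : V := dv (![84, 47, 46, 162, 238, 196, 78, 34] i)
/-- the inverse of the matrix of simple roots -/
def AI : Matrix (Fin 8) (Fin 8) ℚ := TZ.map (Int.castRingHom ℚ) * HQ
theorem AI_gm : AIᵀ * ((4 : ℚ) • gm.map (Int.castRingHom ℚ)) * AI = 1 := by decide +kernel
theorem gm_self : ∀ i, gm i i = 2 := by decide
theorem gm_adj : ∀ i j, i = j ∨ gm i j = 0 ∨ (gm i j = -1 ∧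
    ((i, j) ∈ [(0, 2), (2, 3), (3, 1), (3, 4), (4, 5), (5, 6), (6, 7)] ∨
    (j, i) ∈ [(0, 2), (2, 3), (3, 1), (3, 4), (4, 5), (5, 6), (6, 7)])) := by
  intro i j; fin_cases i <;> fin_cases j <;> decide
theorem av_Q : ∀ i, QQ (av i) = 1 := by decide +kernel
theorem av_bil : ∀ i j, bil (av i) (av j) = (gm i j : ZMod 2) := by decide +kernel
theorem av_inj : ∀ i j, av i = av j → i = j := by decide +kernel
theorem av_span : ∀ k : II, ∑ i, (TZ i k : ZMod 2) • av i = Pi.single k 1 := by decide +kernel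

theorem lift_dot {g : O2} {i j : Fin 8} (hij : i ≠ j) {x y : Q8} (hx : Root x) (hy : Root y)
    (ex : rd x = a2 g (av i)) (ey : rd y = a2 g (av j)) :
    ∃ k : ℤ, x ⬝ᵥ y = 4 * k ∧ k % 2 = gm i j % 2 ∧ -1 ≤ k ∧ k ≤ 1 := by
  obtain ⟨k, h1, h2, h3⟩ := root_dot hx hy
  rw [ex, ey, bil_a2, av_bil] at h2
  refine ⟨k, h1, (ZMod.intCast_eq_intCast_iff' _ _ 2).1 h2, ?_⟩
  have : rd x ≠ rd y := fun e => hij (av_inj _ _ (a2_inj g (by rw [← ex, ← ey, e])))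
  rcases h3 with rfl | rfl | h3
  · exact absurd rfl this
  · exact absurd (rd_neg hy.1) this
  · exact h3

theorem lift_adj {g : O2} {i : Fin 8} (j : Fin 8) (hij : gm i j = -1) {x : Q8} (hx : Root x)
    (ex : rd x = a2 g (av i)) : ∃ y, Root y ∧ rd y = a2 g (av j) ∧ x ⬝ᵥ y = -4 := by
  obtain ⟨y, hy, ey⟩ := exists_root ((Q_a2 g _).trans (av_Q j))
  obtain ⟨k, h1, h2, h3, h4⟩ := lift_dot (fun e => by
    rw [e, gm_self] at hij; omega) hx hy ex ey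
  have : k = 1 ∨ k = -1 := by omega
  rcases this with rfl | rfl
  · exact ⟨-y, hy.neg, (rd_neg hy.1).trans ey, by rw [dotProduct_neg, h1]; norm_num⟩
  · exact ⟨y, hy, ey, by rw [h1]; norm_num⟩

theorem lift_all (g : O2) : ∃ β : Fin 8 → Q8, (∀ i, Root (β i) ∧ rd (β i) = a2 g (av i)) ∧
    ∀ i j, β i ⬝ᵥ β j = 4 * gm i j := by
  obtain ⟨b0, r0, e0⟩ := exists_root ((Q_a2 g _).trans (av_Q 0))
  obtain ⟨b2, r2, e2, d02⟩ := lift_adj 2 rfl r0 e0
  obtain ⟨b3, r3, e3, d23⟩ := lift_adj 3 rfl r2 e2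
  obtain ⟨b1, r1, e1, d31⟩ := lift_adj 1 rfl r3 e3
  obtain ⟨b4, r4, e4, d34⟩ := lift_adj 4 rfl r3 e3
  obtain ⟨b5, r5, e5, d45⟩ := lift_adj 5 rfl r4 e4
  obtain ⟨b6, r6, e6, d56⟩ := lift_adj 6 rfl r5 e5
  obtain ⟨b7, r7, e7, d67⟩ := lift_adj 7 rfl r6 e6
  have h : ∀ i, Root (![b0, b1, b2, b3, b4, b5, b6, b7] i) ∧
      rd (![b0, b1, b2, b3, b4, b5, b6, b7] i) = a2 g (av i) := by
    intro i
    fin_cases i
    exacts [⟨r0, e0⟩, ⟨r1, e1⟩, ⟨r2, e2⟩, ⟨r3, e3⟩, ⟨r4, e4⟩, ⟨r5, e5⟩, ⟨r6, e6⟩, ⟨r7, e7⟩]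
  refine ⟨_, h, fun i j => ?_⟩
  by_cases hij : i = j
  · subst hij
    rw [(h i).1.2, gm_self]; norm_num
  obtain h0 | h0 | ⟨g1, this⟩ := gm_adj i j
  · exact absurd h0 hij
  · obtain ⟨k, h1, h2, h3, h4⟩ := lift_dot hij (h i).1 (h j).1 (h i).2 (h j).2
    have : k = 0 := by omega
    rw [h1, h0, this]
  simp only [List.mem_cons, List.not_mem_nil, or_false, Prod.mk.injEq] at this
  rw [g1, show (4 * ((-1 : ℤ) : ℚ)) = -4 by norm_num]
  rcases this with h | h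
  · rcases h with h | h | h | h | h | h | h <;> obtain ⟨rfl, rfl⟩ := h <;> assumption
  · rw [dotProduct_comm]
    rcases h with h | h | h | h | h | h | h <;> obtain ⟨rfl, rfl⟩ := h <;> assumption

theorem rd_zsmul {x : Q8} (hx : x ∈ Lam) (z : ℤ) : rd ((z : ℚ) • x) = (z : ZMod 2) • rd x := by
  obtain ⟨c, rfl⟩ := mem_LamG.1 hx
  rw [← mulVec_smul, show (z : ℚ) • cq c = cq (z • c) from funext fun k => by simp [cq], rd_G, rd_G]
  exact funext fun k => by simp [c2]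
theorem zsmul_mem' {x : Q8} (hx : x ∈ Lam) (z : ℤ) : (z : ℚ) • x ∈ Lam := by
  rw [Int.cast_smul_eq_zsmul]; exact Lam.zsmul_mem hx z
theorem rd_sum {f : Fin 8 → Q8} (hf : ∀ i, f i ∈ Lam) (s : Finset (Fin 8)) :
    rd (∑ i ∈ s, f i) = ∑ i ∈ s, rd (f i) := by
  induction s using Finset.induction_on with
  | empty => simp [rd_zero]
  | insert a s ha ih =>
    rw [Finset.sum_insert ha, Finset.sum_insert ha, rd_add (hf a) (Lam.sum_mem fun i _ => hf i), ih]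

theorem red_surj (g : O2) : ∃ A : W, red A = g := by
  obtain ⟨β, h1, h2⟩ := lift_all g
  let Bm : Matrix (Fin 8) (Fin 8) ℚ := Matrix.of fun i j => β j i
  have e : Bmᵀ * Bm = (4 : ℚ) • gm.map (Int.castRingHom ℚ) := by
    ext i j
    simpa [Bm, mul_apply, dotProduct] using h2 i j
  let A : O := ⟨Bm * AI, (mem_orthogonalGroup_iff' _ _).2 (by
    rw [transpose_mul, ← AI_gm, ← e]; simp only [Matrix.mul_assoc])⟩
  have hA : ∀ c, ap A (GQ *ᵥ cq c) = ∑ j, ((TZ *ᵥ c) j : ℚ) • β j := fun c => by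
    show (Bm * AI) *ᵥ _ = _
    rw [AI, mulVec_mulVec, Matrix.mul_assoc, Matrix.mul_assoc, HG, Matrix.mul_one, ← mulVec_mulVec]
    funext i
    simp [Bm, mulVec, dotProduct, cq, mul_comm]
  have hW : A ∈ W := fun x hx => by
    obtain ⟨c, rfl⟩ := mem_LamG.1 hx
    rw [hA]
    exact Lam.sum_mem fun j _ => zsmul_mem' (h1 j).1.1 _
  refine ⟨⟨A, hW⟩, O2_ext fun k => ?_⟩
  have e1 : (Pi.single k 1 : V) = c2 (Pi.single k 1) := funext fun j => by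
    by_cases h : j = k <;> simp [c2, h]
  conv_lhs => rw [e1, ← rd_G, red_rd _ (mem_LamG.2 ⟨_, rfl⟩), hA,
    rd_sum fun j => zsmul_mem' (h1 j).1.1 _]
  rw [← av_span, a2, mulVec_sum]
  refine Finset.sum_congr rfl fun j _ => ?_
  rw [rd_zsmul (h1 j).1.1, (h1 j).2, mulVec_smul, mulVec_single_one]; rfl

/-- a three-cycle -/
def c3 : S8 := swap 0 1 * swap 1 2
/-- a seven-cycle -/
def c7 : S8 := swap 1 2 * swap 2 3 * (swap 3 4 * swap 4 5) * (swap 5 6 * swap 6 7)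
theorem sign_c3 : Perm.sign c3 = 1 := by decide
theorem sign_c7 : Perm.sign c7 = 1 := by decide
theorem rep_mono (π : S8) {v : B8} (hv : Ev v) (c : ℕ)
    (h : ∀ k : II, c2 (crd (monI π v fun i => GZ i k)) = dv (col c (ix k))) :
    Rep (red ⟨_, mono_mem (π := π) hv⟩) c := rep_red _ _ (fun n _ => ap_mono_ci π v n) c h
theorem rep_sg : Rep (red ⟨_, sg_mem (ev_pair 0 1)⟩) 0x8141213f08040301 :=
  rep_mono 1 (ev_pair 0 1) _ (by decide +kernel)
theorem rep_c3 : Rep (red ⟨_, pm_mem c3⟩) 0xae6e82108404a001 :=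
  rep_mono _ ev_zero _ (by decide +kernel)
theorem rep_c7 : Rep (red ⟨_, pm_mem c7⟩) 0x6028861004060801 :=
  rep_mono _ ev_zero _ (by decide +kernel)
theorem rep_sw : Rep (red ⟨_, pm_mem (swap 0 1)⟩) 0xae6e0e1008042c01 :=
  rep_mono _ ev_zero _ (by decide +kernel)
theorem rep_rot : Rep (red ⟨_, pm_mem (finRotate 8)⟩) 0x6006861004280801 :=
  rep_mono _ ev_zero _ (by decide +kernel)
theorem rep_rh : Rep (red ⟨_, rh_mem⟩) 0x8040200108040210 :=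
  rep_red _ rhI (fun _ h => ap_rh_ci h) _ (by decide +kernel)
theorem rep_tt : Rep (red ⟨_, tt_memp.1⟩) 0xbe7e1e3f08043c10 :=
  rep_red _ (fun n => rhI (monI (swap 0 1) (bb 0 + bb 1) n)) (fun n h => by
    have := r01_mem _ (ci_mem h)
    rw [r01, ap_mono_ci] at this
    show ap (rh * r01) _ = _
    rw [ap_mul, r01, ap_mono_ci, ap_rh_ci (LI_of_mem this)]) _ (by decide +kernel)

/-- words reaching the singular vectors -/
def wt1 : List (List ℕ) :=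
  [[], [], [3,2,2,3,2,1,0,3], [1,2,2,3,2,1,0,3], [2,2,3,2,2,3,2,1,0,3], [3,2,0,2,2,0,3],
  [0,2,3,2,0,2,2,0,3], [2,3,2,0,2,2,0,3], [2,3,2,2,3,2,1,0,3], [2,1,2,2,3,2,1,0,3],
  [3,2,3,2,0,2,2,2,0,3], [2,2,2,3,2,0,2,2,0,3], [1,0,2,3,2,2,2,1,0,3], [3,2,2,2,2,1,0,3],
  [2,0,2,3,2,0,2,2,0,3], [2,2,3,2,0,2,2,0,3], [3], [], [0,2,2,0,2,1,0,3], [], [0,2,0,2,2,0,3], [],
  [2,0,2,0,2,2,0,3], [], [2,0,2,2,0,2,1,0,3], [], [2,2,2,0,2,0,2,2,0,3], [], [0,2,2,2,2,1,0,3],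
  [], [2,2,0,2,0,2,2,0,3], [], [3,2,2,3,2,0,2,2,0,3], [2,3,2,2,2,0,2,2,0,3], [], [],
  [0,2,3,2,0,2,2,2,0,3], [2,3,2,0,2,2,2,0,3], [], [], [3,2,3,2,0,2,2,0,3], [2,2,2,3,2,2,1,0,3],
  [], [], [2,0,2,3,2,1,0,3], [2,2,3,2,1,0,3], [], [], [0,2,2,0,2,0,2,2,0,3], [], [],
  [2,2,2,2,1,0,3], [2,0,2,0,2,2,2,0,3], [], [], [2,2,0,2,2,2,2,0,3], [2,2,2,0,2,2,1,0,3], [], [],
  [2,0,2,2,0,3], [2,2,0,2,1,0,3], [], [], [0,3], [2,0,2,3,2,2,1,0,3], [2,2,3,2,2,1,0,3],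
  [1,0,2,3,2,2,0,2,2,0,3], [3,2,2,2,0,2,2,0,3], [], [], [], [], [0,2,3,2,1,0,3], [2,3,2,1,0,3],
  [2,2,3,2,3,2,2,1,0,3], [3,2,0,2,2,2,0,3], [], [], [], [], [2,2,0,2,2,1,0,3], [],
  [0,2,2,2,0,2,2,0,3], [], [], [2,2,2,2,2,2,0,3], [], [2,0,2,2,2,2,0,3], [2,0,2,1,0,3], [],
  [0,2,0,2,2,2,0,3], [], [], [0,2,2,0,3], [], [2,2,2,1,0,3], [1,0,2,3,2,2,1,0,3], [3,2,2,2,1,0,3],
  [], [], [], [], [3,2,3,2,1,0,3], [1,3,2,2,1,0,3], [2,2,3,2,3,2,0,2,2,0,3], [3,2,0,2,2,2,2,0,3],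
  [], [], [], [], [3,2,2,3,2,2,1,0,3], [1,2,2,3,2,2,1,0,3], [0,2,2,2,1,0,3], [], [], [2,2,0,3],
  [], [2,0,2,2,2,0,3], [0,2,0,2,1,0,3], [], [0,2,0,2,2,2,2,0,3], [], [], [2,2,2,2,2,2,1,0,3], [],
  [2,2,2,0,2,2,0,3], [0,2,2,0,2,2,1,0,3], [], [3,2,3,2,2,2,1,0,3], [1,3,2,2,2,2,1,0,3],
  [2,3,2,3,2,0,2,2,0,3], [2,2,2,2,3,2,2,1,0,3], [2,2,0,2,3,2,1,0,3], [2,2,2,3,2,1,0,3],
  [2,3,2,2,3,2,0,2,2,0,3], [3,2,2,0,2,2,2,0,3], [], [], [], [], [], [], [], [],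
  [0,2,0,2,2,2,1,0,3], [], [2,2,2,2,0,2,2,1,0,3], [], [2,2,2,0,2,1,0,3], [], [0,2,2,0,2,2,2,0,3],
  [], [], [0,2,2,2,0,3], [], [2,2,0,2,2,0,3], [], [2,0,3], [], [2,2,2,2,2,1,0,3],
  [2,3,2,3,2,1,0,3], [2,1,3,2,2,1,0,3], [], [], [2,3,2,2,3,2,2,1,0,3], [3,2,2,0,2,2,0,3], [], [],
  [], [], [3,2,2,2,3,2,1,0,3], [1,2,2,2,3,2,1,0,3], [], [], [0,2,3,2,2,2,1,0,3],
  [2,3,2,2,2,1,0,3], [2,0,2,0,2,1,0,3], [], [], [1,0,3], [0,2,2,0,2,2,0,3], [], [], [2,2,2,0,3],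
  [], [2,2,0,2,2,2,0,3], [0,2,2,2,0,2,1,0,3], [], [], [2,2,2,2,0,2,2,0,3], [2,0,2,2,2,1,0,3], [],
  [2,2,2,3,2,3,2,1,0,3], [3,2,1,0,3], [0,2,3,2,2,1,0,3], [2,3,2,2,1,0,3], [], [], [], [], [], [],
  [], [], [2,3,2,3,2,2,1,0,3], [2,1,3,2,2,2,1,0,3], [3,2,3,2,2,0,2,2,0,3], [1,3,2,2,2,0,2,2,0,3],
  [0,2,1,0,3], [], [2,0,2,2,1,0,3], [], [], [2,2,1,0,3], [], [0,2,2,2,2,0,3], [],
  [2,0,2,2,2,2,2,0,3], [], [2,2,2,2,2,0,3], [2,0,2,0,2,2,1,0,3], [], [0,2,0,2,2,0,2,2,0,3], [],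
  [0,2,3,2,2,0,2,2,0,3], [2,3,2,2,0,2,2,0,3], [], [], [], [], [2,2,3,2,3,2,1,0,3],
  [2,2,1,3,2,2,1,0,3], [], [], [1,0,2,3,2,1,0,3], [3,2,2,1,0,3], [3,2,3,2,2,1,0,3],
  [1,3,2,2,2,1,0,3], [], [], [2,0,2,2,0,2,2,0,3], [], [], [2,2,2,0,2,2,2,0,3], [],
  [0,2,2,2,2,2,0,3], [2,2,0,2,0,2,1,0,3], [], [], [2,2,2,2,0,3], [0,2,2,1,0,3], [],
  [0,2,0,2,2,1,0,3], [], [], [2,1,0,3]]
theorem wt1_spec : ∀ n < 256, n ≠ 0 → qn n = false →
    wdv [0x8141213f08040301, 0xae6e82108404a001, 0x6028861004060801, 0xbe7e1e3f08043c10]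
      (wt1.getD n []) 1 = n := by decide +kernel

theorem reach {H : Subgroup O} (h1 : ∀ π v, Perm.sign π = 1 → Ev v → mono π v ∈ H) (h2 : tt ∈ H)
    {v : V} (h0 : v ≠ 0) (hv : QQ v = 0) :
    ∃ A, ∃ h : A ∈ Wp, A ∈ H ∧ a2 (red ⟨A, h.1⟩) (dv 1) = v := by
  obtain ⟨n, hn, rfl⟩ := exists_dv v
  have e := wt1_spec n hn (fun e => h0 (by rw [e, dv_zero])) (by
    rw [Q_dv n hn] at hv
    by_contra hc
    rw [if_pos (by simpa using hc)] at hv
    exact absurd hv (by decide))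
  have aux : ∀ (A : W) c, Rep (red A) c → A.1 ∈ H → A.1 ∈ Wp →
      ∃ g ∈ ((H ⊓ Wp).subgroupOf W).map red, Rep g c := fun A c k3 k1 k2 =>
    ⟨red A, ⟨A, ⟨k1, k2⟩, rfl⟩, k3⟩
  obtain ⟨g, hg, e'⟩ := wdv_mem (H := ((H ⊓ Wp).subgroupOf W).map red)
    (gs := [0x8141213f08040301, 0xae6e82108404a001, 0x6028861004060801, 0xbe7e1e3f08043c10])
    (fun c hc => by
      simp only [List.mem_cons, List.not_mem_nil, or_false] at hc
      rcases hc with hc | hc | hc | hc <;> rw [hc]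
      · exact aux _ _ rep_sg (h1 1 _ Perm.sign_one (ev_pair 0 1)) (sg_memp (ev_pair 0 1))
      · exact aux _ _ rep_c3 (h1 c3 0 sign_c3 ev_zero) (pm_memp sign_c3)
      · exact aux _ _ rep_c7 (h1 c7 0 sign_c7 ev_zero) (pm_memp sign_c7)
      · exact aux _ _ rep_tt h2 tt_memp) (wt1.getD n []) 1
  rw [e] at e'
  obtain ⟨A, hA, rfl⟩ := hg
  exact ⟨A.1, hA.2, hA.1, e'⟩

end E8
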