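import Cfsg.Agent.E8.G

/-! Root elements of the orthogonal group over the field with two elements. -/

set_option autoImplicit false

namespace E8
open Matrix Equiv Cfsg
open scoped commutatorElement

/-- codes of the root elements -/
def xl : List ℕ :=
  [0x80c020100c040201, 0x8448201008040201, 0x8040601008060201, 0x8040203008040301,
  0x8040a0100a040201, 0x8240281008040201, 0x8040205008050201, 0x8042241008040201,
  0x8040209009040201, 0x8140201808040201, 0x8041201408040201, 0x8040211208040201,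
  0xc0402010080c0201, 0x8040201048840201, 0x8060201008040601, 0x8040301008040203,
  0xa040201008040a01, 0x8040201028048201, 0x8050201008040205, 0x8040201008244201,
  0x9040201008040209, 0x8040201018040281, 0x8040201008140241, 0x8040201008041221]
/-- the code of a root element -/
def xc (a : Fin 24) : ℕ := xl.getD a cid
theorem xc_good : ∀ a, Good (xc a) := by decide +kernel
/-- root elements -/
def xg (a : Fin 24) : O2 := mk2 (xc a) (xc_good a)
theorem rep_xg (a : Fin 24) : Rep (xg a) (xc a) := rep_mk2 _ _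
/-- table of sums -/
def smT : ℕ := 0x3a1194e9505800000000000005c001018d780009829500000000170001620000035e08824000000002e0002c0284000300f800120000005c00b000030c000018d0021100000b8000002b4380200000073c000001700000a80134006000000035c0002e000000a026048003080000300e00000b02b40480001ca4008000000005c0000000902305000000c2000000000160541304400020c02004000000002c005260040000240628002000000088531d0902800000000000000000700011800038109000000000002c008300000460280c0000000000b0000a8b400000032000600000001600014093c0000001000850000002c0050000981ac0000010c00000005800000128a01e060000004400000b0000048007a800f68000000020016000000400e004e300380000000000005012801800b000003dac0000002c0000000300a405240801c0000000000a0240701400054128800e0000000140020e001000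
/-- table of inner products -/
def ipT : ℕ := 0x8db6db4d204924945271b69265b2092922c96e24d969924244b28b6d44cb68b2504592996d285b29b2520c968969b3126c928961225b6996a22d928b28264b68b6942cb2992906594db2c985244965b0d26524db3092d244961b4d965946244b2cb4c24cb64b4544592d94d00492494528db6db4d22092922c971b69265b24244b28b6e24d96992504592996d44cb68b2520c96896d285b29b28961225b69b3126c928b28264b6996a22d929929065968b6942cb44965b0d24db2c98522d244961b6524db30944b2cb4c24d96594624592d94d04cb64b454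
/-- sums of roots -/
def sm (a b : Fin 24) : Fin 24 := Fin.ofNat 24 (smT >>> (5 * (24 * a.1 + b.1)) % 32)
/-- inner products of roots, shifted by two -/
def ip (a b : Fin 24) : ℕ := ipT >>> (3 * (24 * a.1 + b.1)) % 8
/-- simple reflections -/
def sr (i : Fin 4) (a : Fin 24) : Fin 24 :=
  ![![12, 1, 4, 3, 2, 7, 8, 5, 6, 10, 9, 11, 0, 13, 16, 15, 14, 19, 20, 17, 18, 22, 21, 23],
    ![0, 13, 5, 3, 7, 2, 9, 4, 10, 6, 8, 11, 12, 1, 17, 15, 19, 14, 21, 16, 22, 18, 20, 23],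
    ![4, 5, 14, 6, 0, 1, 3, 7, 8, 9, 11, 10, 16, 17, 2, 18, 12, 13, 15, 19, 20, 21, 23, 22],
    ![0, 1, 6, 15, 8, 9, 2, 10, 4, 5, 7, 11, 12, 13, 18, 3, 20, 21, 14, 22, 16, 17, 19, 23]] i a
/-- a simple root -/
def sp (i : Fin 4) : Fin 24 := ⟨i, by omega⟩
/-- its negative -/
def sq (i : Fin 4) : Fin 24 := ⟨i + 12, by omega⟩
/-- the action of a reflection -/
def tr0 : Fin 24 → Fin 24 :=
  ![0, 1, 2, 23, 4, 5, 22, 7, 21, 20, 18, 15, 12, 13, 14, 11, 16, 17, 10, 19, 9, 8, 6, 3]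

theorem xc_comm : ∀ a b, 2 ≤ ip a b → cmp (xc a) (xc b) = cmp (xc b) (xc a) := by decide +kernel
theorem xc_sum : ∀ a b, ip a b = 1 →
    cmp (xc a) (xc b) = cmp (xc (sm a b)) (cmp (xc b) (xc a)) := by decide +kernel
theorem xc_refl : ∀ i a, cmp (cmp (xc (sp i)) (cmp (xc (sq i)) (xc (sp i)))) (xc a) =
    cmp (xc (sr i a)) (cmp (xc (sp i)) (cmp (xc (sq i)) (xc (sp i)))) := by decide +kernel
theorem xc_t0 : ∀ a, cmp 0x8040200108040210 (xc a) = cmp (xc (tr0 a)) 0x8040200108040210 := by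
  decide +kernel
theorem exists_sm : ∀ c, ∃ a b, ip a b = 1 ∧ sm a b = c := by decide +kernel

theorem xg_sq (a : Fin 24) : xg a * xg a = 1 :=
  ((rep_xg a).mul (rep_xg a)).ext' rep_one (xc_good a).1
theorem xg_sum {a b : Fin 24} (h : ip a b = 1) : ⁅xg a, xg b⁆ = xg (sm a b) := by
  have := ((rep_xg a).mul (rep_xg b)).ext' ((rep_xg _).mul ((rep_xg b).mul (rep_xg a)))
    (xc_sum a b h)
  rw [commutatorElement_def, this]; group

/-- the commutator subgroup -/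
abbrev Om : Type := commutator O2
theorem xg_mem (c : Fin 24) : xg c ∈ commutator O2 := by
  obtain ⟨a, b, h, rfl⟩ := exists_sm c
  rw [← xg_sum h]
  exact Subgroup.commutator_mem_commutator (Subgroup.mem_top _) (Subgroup.mem_top _)
/-- root elements in the commutator subgroup -/
def xo (a : Fin 24) : Om := ⟨xg a, xg_mem a⟩
theorem xo_sq (a : Fin 24) : xo a * xo a = 1 := Subtype.ext (xg_sq a)
theorem xo_sum {a b : Fin 24} (h : ip a b = 1) : ⁅xo a, xo b⁆ = xo (sm a b) :=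
  Subtype.ext (xg_sum h)
theorem xo_comm {a b : Fin 24} (h : 2 ≤ ip a b) : xo a * xo b = xo b * xo a :=
  Subtype.ext (((rep_xg a).mul (rep_xg b)).ext' ((rep_xg b).mul (rep_xg a)) (xc_comm a b h))
theorem xo_refl (i : Fin 4) (a : Fin 24) : xo (sp i) * (xo (sq i) * xo (sp i)) * xo a *
    (xo (sp i) * (xo (sq i) * xo (sp i)))⁻¹ = xo (sr i a) := by
  rw [mul_inv_eq_iff_eq_mul]
  exact Subtype.ext ((((rep_xg _).mul ((rep_xg _).mul (rep_xg _))).mul (rep_xg a)).ext'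
    ((rep_xg _).mul ((rep_xg _).mul ((rep_xg _).mul (rep_xg _)))) (xc_refl i a))

section
variable {G : Type*} [Group G]
/-- extension by a normalising element -/
def ext2 (N : Subgroup G) (r : G) (h1 : r * r ∈ N) (h2 : ∀ x ∈ N, r * x * r⁻¹ ∈ N) :
    Subgroup G where
  carrier := {g | g ∈ N ∨ g * r ∈ N}
  one_mem' := .inl N.one_mem
  mul_mem' := by
    have h3 : ∀ x ∈ N, r⁻¹ * x * r ∈ N := fun x hx => by
      have := N.mul_mem (N.mul_mem (N.inv_mem h1) (h2 x hx)) h1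
      convert this using 1; group
    rintro a b (ha | ha) (hb | hb)
    · exact .inl (N.mul_mem ha hb)
    · exact .inr (by rw [mul_assoc]; exact N.mul_mem ha hb)
    · right
      have := N.mul_mem ha (h3 b hb)
      convert this using 1; group
    · left
      have := N.mul_mem (N.mul_mem ha (h3 _ hb)) (N.inv_mem h1)
      convert this using 1; group
  inv_mem' := by
    rintro a (ha | ha)
    · exact .inl (N.inv_mem ha)
    · right
      have := N.mul_mem (h2 _ (N.inv_mem ha)) h1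
      convert this using 1; group

theorem mem_ext2 {N : Subgroup G} {r : G} {h1 : r * r ∈ N} {h2 : ∀ x ∈ N, r * x * r⁻¹ ∈ N}
    {g : G} : g ∈ ext2 N r h1 h2 ↔ g ∈ N ∨ g * r ∈ N := Iff.rfl

theorem index_ext2 {N : Subgroup G} {r : G} {h1 : r * r ∈ N} {h2 : ∀ x ∈ N, r * x * r⁻¹ ∈ N}
    (h : r ∉ N) : (N.subgroupOf (ext2 N r h1 h2)).index = 2 :=
  Subgroup.index_eq_two_iff.2 ⟨⟨r, .inr h1⟩, fun b => by
    simp only [Subgroup.mem_subgroupOf, Subgroup.coe_mul]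
    by_cases hb : b.1 ∈ N
    · exact .inr ⟨hb, fun a => h ((N.mul_mem_cancel_left hb).1 a)⟩
    · exact .inl ⟨b.2.resolve_left hb, hb⟩⟩

theorem card_ext2 {N : Subgroup G} {r : G} {h1 : r * r ∈ N} {h2 : ∀ x ∈ N, r * x * r⁻¹ ∈ N}
    (h : r ∉ N) : Nat.card (ext2 N r h1 h2) = 2 * Nat.card N := by
  rw [← (N.subgroupOf (ext2 N r h1 h2)).index_mul_card, index_ext2 h]
  congr 1
  exact Nat.card_congr (Subgroup.subgroupOfEquivOfLe
    (show N ≤ ext2 N r h1 h2 from fun _ h => Or.inl h)).toEquiv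

theorem conj_closure {S : Set G} {r : G} (h : ∀ x ∈ S, r * x * r⁻¹ ∈ Subgroup.closure S) :
    ∀ x ∈ Subgroup.closure S, r * x * r⁻¹ ∈ Subgroup.closure S := fun x hx => by
  have : Subgroup.closure S ≤ (Subgroup.closure S).comap (MulAut.conj r).toMonoidHom :=
    (Subgroup.closure_le _).2 h
  exact this hx
end

theorem word_mem (l : List ℕ) : ∃ g ∈ Subgroup.closure (Set.range xg), Rep g (wdc xl l) :=
  wdc_mem (fun c hc => by
    obtain ⟨i, hi, rfl⟩ := List.getElem_of_mem hc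
    exact ⟨xg ⟨i, hi⟩, Subgroup.subset_closure ⟨_, rfl⟩, by
      have := rep_xg ⟨i, hi⟩
      rwa [xc, List.getD_eq_getElem _ _ hi] at this⟩) l

theorem red_mem_closure {A : O} (hA : A ∈ Wp) :
    red ⟨A, hA.1⟩ ∈ Subgroup.closure (Set.range xg) := by
  obtain ⟨N, hN⟩ : ∃ N : Subgroup W, ∀ x, x ∈ N ↔
      red x ∈ Subgroup.closure (Set.range xg) ∧ dt x.1 = 1 :=
    ⟨(Subgroup.closure (Set.range xg)).comap red ⊓ (dt.comp W.subtype).ker, fun _ => by
      rw [Subgroup.mem_inf, Subgroup.mem_comap, MonoidHom.mem_ker, MonoidHom.comp_apply,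
        Subgroup.subtype_apply]⟩
  obtain ⟨R, hR, rR⟩ : ∃ R : W, R.1 = rh ∧ Rep (red R) 0x8040200108040210 :=
    ⟨⟨rh, rh_mem⟩, rfl, rep_rh⟩
  have m : ∀ (A : W) c l, Rep (red A) c → c = wdc xl l → dt A.1 = 1 → A ∈ N :=
    fun A c l h e d => by
      obtain ⟨g, hg, r⟩ := word_mem l
      exact (hN _).2 ⟨r.ext' h e.symm ▸ hg, d⟩
  have h1 : R * R ∈ N := by
    rw [show R * R = 1 from Subtype.ext (by rw [Subgroup.coe_mul, hR, rh_mul_self]; rfl)]
    exact N.one_mem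
  have h2 : ∀ x ∈ N, R * x * R⁻¹ ∈ N := fun x hx => by
    rw [hN] at hx ⊢
    refine ⟨?_, (dt_conj _ _).trans hx.2⟩
    rw [map_mul, map_mul, map_inv]
    refine conj_closure ?_ _ hx.1
    rintro _ ⟨a, rfl⟩
    rw [(rR.mul (rep_xg a)).ext' ((rep_xg _).mul rR) (xc_t0 a), mul_inv_cancel_right]
    exact Subgroup.subset_closure ⟨_, rfl⟩
  have d : ∀ (π : S8) c l, Perm.sign π = -1 → Rep (red ⟨_, pm_mem π⟩) c →
      cmp c 0x8040200108040210 = wdc xl l → pm π ∈ (ext2 N R h1 h2).map W.subtype :=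
    fun π c l h r e => ⟨⟨_, pm_mem π⟩, Or.inr (m _ _ l (by rw [map_mul]; exact r.mul rR) e (by
      rw [Subgroup.coe_mul, map_mul, hR, dt_rh, dt_pm, h]; simp)), rfl⟩
  obtain ⟨x, hx, e⟩ := W_ind (H := (ext2 N R h1 h2).map W.subtype)
    (d _ _ [3, 11, 15, 23, 3, 11, 0, 16, 5, 0] (by decide) rep_sw (by decide +kernel))
    (d _ _ [3, 11, 15, 23, 3, 11, 4, 16, 7, 0, 1, 12, 0] (by decide) rep_rot (by decide +kernel))
    ⟨⟨_, sg_mem (ev_pair 0 1)⟩, Or.inl (m _ _ [0, 3, 4, 9, 4, 0] rep_sg (by decide +kernel)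
      (sg_memp (ev_pair 0 1)).2), rfl⟩ ⟨R, Or.inr h1, hR⟩ hA.1
  obtain rfl : x = ⟨A, hA.1⟩ := Subtype.ext e
  rcases hx with hx | hx
  · exact ((hN _).1 hx).1
  · have e' := ((hN _).1 hx).2
    rw [Subgroup.coe_mul, map_mul, hR, dt_rh, show dt A = 1 from hA.2] at e'
    norm_num at e'

theorem closure_le_comm : Subgroup.closure (Set.range xg) ≤ commutator O2 :=
  (Subgroup.closure_le _).2 (by rintro _ ⟨a, rfl⟩; exact xg_mem a)

/-- the reduction onto the commutator subgroup -/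
def redp : Wp →* Om := (red.comp (Subgroup.inclusion inf_le_left)).codRestrict _ fun A =>
  closure_le_comm (red_mem_closure A.2)
theorem redp_val (A : Wp) : (redp A).1 = red ⟨A.1, A.2.1⟩ := rfl

theorem redp_surj : Function.Surjective redp := by
  have : commutator O2 ≤ (red.comp (Subgroup.inclusion (inf_le_left : Wp ≤ W))).range := by
    rw [commutator_def, Subgroup.commutator_le]
    intro g _ h _
    obtain ⟨A, rfl⟩ := red_surj g
    obtain ⟨B, rfl⟩ := red_surj h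
    exact ⟨⟨_, Wp.comm A.2 B.2⟩, by rw [← map_commutatorElement]; rfl⟩
  intro g
  obtain ⟨A, e⟩ := this g.2
  exact ⟨A, Subtype.ext e⟩

theorem closure_xo : Subgroup.closure (Set.range xo) = ⊤ := by
  rw [eq_top_iff]
  intro g _
  obtain ⟨A, rfl⟩ := redp_surj g
  have h := red_mem_closure A.2
  rw [show Set.range xg = (commutator O2).subtype '' Set.range xo by
    rw [← Set.range_comp]; rfl, ← MonoidHom.map_closure] at h
  obtain ⟨x, hx, e⟩ := h
  rwa [← show x = redp A from Subtype.ext e]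

/-- minus the identity -/
def ngp : Wp := ⟨ng, ng_memp⟩
theorem redp_ker (A : Wp) (h : redp A = 1) : A = 1 ∨ A = ngp :=
  (red_ker A.2.1 (congrArg Subtype.val h)).imp Subtype.ext Subtype.ext
theorem redp_ng : redp ngp = 1 := Subtype.ext red_ng

theorem center_Om : Subgroup.center Om = ⊥ := by
  rw [eq_bot_iff]
  intro g hg
  obtain ⟨A, rfl⟩ := redp_surj g
  have h : ∀ x ∈ Wp, A.1 * x * A.1⁻¹ = x ∨ A.1 * x * A.1⁻¹ = ng * x := fun x hx => by
    rcases redp_ker (A * ⟨x, hx⟩ * A⁻¹ * (⟨x, hx⟩ : Wp)⁻¹) (by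
      rw [map_mul, map_mul, map_mul, map_inv, map_inv, ← Subgroup.mem_center_iff.1 hg]; group)
      with e | e
    · exact .inl (mul_inv_eq_one.1 (congrArg Subtype.val e))
    · exact .inr (mul_inv_eq_iff_eq_mul.1 (congrArg Subtype.val e))
  have h3 : ∀ x ∈ Wp, x * x * x = 1 → A.1 * x * A.1⁻¹ = x := fun x hx e => by
    refine (h x hx).resolve_right fun a => ng_ne_one ?_
    have : A.1 * x * A.1⁻¹ * (A.1 * x * A.1⁻¹) * (A.1 * x * A.1⁻¹) = A.1 * (x * x * x) * A.1⁻¹ := by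
      group
    rw [a, e, mul_one, mul_inv_cancel] at this
    calc ng = ng * ng * ng * (x * x * x) := by rw [e, ng_mul_self]; simp
      _ = 1 := by
        rw [← this]
        simp only [mul_assoc]
        rw [← mul_assoc x ng, ← ng_comm x, ← mul_assoc x ng, ← ng_comm x]
        simp only [mul_assoc]
        rw [← mul_assoc x ng, ← ng_comm x]
        simp only [mul_assoc]
  have h2 : ∀ i j, i ≠ j → sg (bb i + bb j) * A.1 = A.1 * sg (bb i + bb j) := fun i j n => by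
    rcases h _ (sg_memp (ev_pair i j)) with e | e
    · exact (mul_inv_eq_iff_eq_mul.1 e).symm
    · have := congrArg trc e
      rw [trc_conj, trc_ng, trc_sg] at this
      exfalso; clear * - n this; revert i j; decide +kernel
  have h4 : ∀ π : S8, Perm.sign π = 1 → pm π * A.1 = A.1 * pm π := fun π s => by
    have : alternatingGroup (Fin 8) ≤ (Subgroup.centralizer {A.1}).comap pmHom := by
      rw [← Perm.closure_three_cycles_eq_alternating, Subgroup.closure_le]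
      intro σ hσ
      have a : σ * σ * σ = 1 := by
        have := pow_orderOf_eq_one σ
        rwa [hσ.orderOf, pow_succ, pow_two] at this
      exact Subgroup.mem_centralizer_singleton_iff.2 (mul_inv_eq_iff_eq_mul.1
        (h3 _ (pm_memp hσ.sign) (by rw [← pm_mul, ← pm_mul, a, pm_one]))).symm
    exact Subgroup.mem_centralizer_singleton_iff.1 (this s)
  rcases comm_alt h4 A.2.2 with e | e
  · rw [show A = 1 from Subtype.ext e, map_one]; exact Subgroup.one_mem _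
  · rw [show A = ngp from Subtype.ext e, redp_ng]; exact Subgroup.one_mem _

/-- words moving orthogonal pairs -/
def tl : List (Fin 24 × Fin 24 × Fin 3 × List (Fin 4)) :=
  [(0,1,2,[2,3,1,2]), (0,3,1,[2,3,1,2]), (0,11,0,[2,3,1,2]), (0,13,2,[1,2,3,1,2]),
  (0,15,1,[2,3,1,2,1]), (0,23,0,[2,3,1,2,0]), (1,0,2,[2,3,0,2]), (1,3,0,[2,3,0,2]),
  (1,11,1,[2,3,0,2]), (1,12,2,[0,2,3,0,2]), (1,15,0,[2,3,0,2,0]), (1,23,1,[2,3,0,2,1]),
  (2,7,2,[3,1,0,2]), (2,8,1,[3,1,0,2]), (2,9,0,[3,1,0,2]), (2,19,2,[1,0,2,3,2]),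
  (2,20,1,[3,1,0,2,1]), (2,21,0,[3,1,0,2,0]), (3,0,1,[2,1,0,2]), (3,1,0,[2,1,0,2]),
  (3,11,2,[2,1,0,2]), (3,12,1,[2,1,0,2,1]), (3,13,0,[2,1,0,2,0]), (3,23,2,[2,1,0,2,3]),
  (4,5,2,[3,1,2]), (4,6,1,[3,1,2]), (4,10,0,[3,1,2]), (4,17,2,[1,2,3,2]), (4,18,1,[3,1,2,1]),
  (4,22,0,[3,1,2,0]), (5,4,2,[3,0,2]), (5,6,0,[3,0,2]), (5,10,1,[3,0,2]), (5,16,2,[0,2,3,2]),
  (5,18,0,[3,0,2,0]), (5,22,1,[3,0,2,1]), (6,4,1,[1,0,2]), (6,5,0,[1,0,2]), (6,10,2,[1,0,2]),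
  (6,16,1,[1,0,2,1]), (6,17,0,[1,0,2,0]), (6,22,2,[1,0,2,3]), (7,2,2,[3,2]), (7,8,0,[3,2]),
  (7,9,1,[3,2]), (7,14,2,[2,3,2]), (7,20,0,[3,2,0]), (7,21,1,[3,2,1]), (8,2,1,[1,2]),
  (8,7,0,[1,2]), (8,9,2,[1,2]), (8,14,1,[1,2,1]), (8,19,0,[1,2,0]), (8,21,2,[1,2,3]),
  (9,2,0,[0,2]), (9,7,1,[0,2]), (9,8,2,[0,2]), (9,14,0,[0,2,0]), (9,19,1,[0,2,1]),
  (9,20,2,[0,2,3]), (10,4,0,[2]), (10,5,1,[2]), (10,6,2,[2]), (10,16,0,[2,0]), (10,17,1,[2,1]),
  (10,18,2,[2,3]), (11,0,0,[]), (11,1,1,[]), (11,3,2,[]), (11,12,0,[0]), (11,13,1,[1]),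
  (11,15,2,[3]), (12,1,2,[0,2,3,1,2]), (12,3,1,[0,2,3,1,2]), (12,11,0,[0,2,3,1,2]),
  (12,13,2,[1,0,2,3,1,2]), (12,15,1,[0,2,3,1,2,1]), (12,23,0,[0,2,3,1,2,0]), (13,0,2,[1,2,3,0,2]),
  (13,3,0,[1,2,3,0,2]), (13,11,1,[1,2,3,0,2]), (13,12,2,[1,0,2,3,0,2]), (13,15,0,[1,2,3,0,2,0]),
  (13,23,1,[1,2,3,0,2,1]), (14,7,2,[2,3,1,0,2]), (14,8,1,[2,3,1,0,2]), (14,9,0,[2,3,1,0,2]),
  (14,19,2,[2,1,0,2,3,2]), (14,20,1,[2,3,1,0,2,1]), (14,21,0,[2,3,1,0,2,0]), (15,0,1,[3,2,1,0,2]),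
  (15,1,0,[3,2,1,0,2]), (15,11,2,[3,2,1,0,2]), (15,12,1,[3,2,1,0,2,1]), (15,13,0,[3,2,1,0,2,0]),
  (15,23,2,[3,2,1,0,2,3]), (16,5,2,[0,2,3,1,0,2]), (16,6,1,[0,2,3,1,0,2]),
  (16,10,0,[0,2,3,1,0,2]), (16,17,2,[2,1,0,2,3,1,2]), (16,18,1,[0,2,3,1,0,2,1]),
  (16,22,0,[0,2,3,1,0,2,0]), (17,4,2,[1,2,3,1,0,2]), (17,6,0,[1,2,3,1,0,2]),
  (17,10,1,[1,2,3,1,0,2]), (17,16,2,[2,1,0,2,3,0,2]), (17,18,0,[1,2,3,1,0,2,0]),
  (17,22,1,[1,2,3,1,0,2,1]), (18,4,1,[2,3,2,1,0,2]), (18,5,0,[2,3,2,1,0,2]),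
  (18,10,2,[2,3,2,1,0,2]), (18,16,1,[2,3,2,1,0,2,1]), (18,17,0,[2,3,2,1,0,2,0]),
  (18,22,2,[3,2,1,0,2,3,2]), (19,2,2,[1,0,2,3,1,0,2]), (19,8,0,[1,0,2,3,1,0,2]),
  (19,9,1,[1,0,2,3,1,0,2]), (19,14,2,[2,1,0,2,3,1,0,2]), (19,20,0,[1,0,2,3,1,0,2,0]),
  (19,21,1,[1,0,2,3,1,0,2,1]), (20,2,1,[0,2,3,2,1,0,2]), (20,7,0,[0,2,3,2,1,0,2]),
  (20,9,2,[0,2,3,2,1,0,2]), (20,14,1,[0,2,3,2,1,0,2,1]), (20,19,0,[0,2,3,2,1,0,2,0]),
  (20,21,2,[3,2,1,0,2,3,1,2]), (21,2,0,[1,2,3,2,1,0,2]), (21,7,1,[1,2,3,2,1,0,2]),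
  (21,8,2,[1,2,3,2,1,0,2]), (21,14,0,[1,2,3,2,1,0,2,0]), (21,19,1,[1,2,3,2,1,0,2,1]),
  (21,20,2,[3,2,1,0,2,3,0,2]), (22,4,0,[1,0,2,3,2,1,0,2]), (22,5,1,[1,0,2,3,2,1,0,2]),
  (22,6,2,[1,0,2,3,2,1,0,2]), (22,16,0,[1,0,2,3,2,1,0,2,0]), (22,17,1,[1,0,2,3,2,1,0,2,1]),
  (22,18,2,[3,2,1,0,2,3,1,0,2]), (23,0,0,[2,1,0,2,3,2,1,0,2]), (23,1,1,[2,1,0,2,3,2,1,0,2]),
  (23,3,2,[2,1,0,2,3,2,1,0,2]), (23,12,0,[2,1,0,2,3,2,1,0,2,0]), (23,13,1,[2,1,0,2,3,2,1,0,2,1]),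
  (23,15,2,[3,2,1,0,2,3,2,1,0,2])]
/-- the three standard partners -/
def dl : Fin 3 → Fin 24 := ![0, 1, 3]
theorem tl_spec : ∀ e ∈ tl, e.2.2.2.foldr sr 11 = e.1 ∧ e.2.2.2.foldr sr (dl e.2.2.1) = e.2.1 := by
  decide +kernel
theorem tl_all : ∀ a b, ip a b = 2 → ∃ e ∈ tl, e.1 = a ∧ e.2.1 = b := by decide +kernel

/-- masks of invariant sets -/
def mk1 : Fin 24 → ℕ := fun k => [252, 252, 254, 255, 254, 254, 255, 254, 255, 255, 255, 255].getD k 0
/-- patterns of invariant sets -/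
def mk3 : Fin 24 → ℕ := fun k => [8, 128, 4, 2, 8, 128, 4, 64, 8, 128, 64, 32].getD k 0
theorem mk_spec : ∀ k : Fin 24, k.1 < 12 → (mk3 k < 256 ∧ mk3 k &&& mk1 k = mk3 k ∧
    lin (xc k) (mk3 k) % 256 &&& mk1 k ≠ mk3 k) ∧ ∀ i : Fin 24, k < i → i.1 < 12 → ∀ n < 256,
    n &&& mk1 k = mk3 k → lin (xc i) n % 256 &&& mk1 k = mk3 k := by decide +kernel

theorem xo_not_mem (k : Fin 24) (hk : k.1 < 12) :
    xo k ∉ Subgroup.closure (xo '' {i | k < i ∧ i.1 < 12}) := fun h => by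
  obtain ⟨⟨a, b, c⟩, d⟩ := mk_spec k hk
  have key : ∀ g ∈ Subgroup.closure (xo '' {i | k < i ∧ i.1 < 12}),
      ∃ m < 256, m &&& mk1 k = mk3 k ∧ a2 g.1 (dv (mk3 k)) = dv m := fun g hg => by
    have st : ∀ x ∈ xo '' {i | k < i ∧ i.1 < 12}, ∀ y : Om,
        (∃ m < 256, m &&& mk1 k = mk3 k ∧ a2 y.1 (dv (mk3 k)) = dv m) →
        ∃ m < 256, m &&& mk1 k = mk3 k ∧ a2 (x * y).1 (dv (mk3 k)) = dv m := by
      rintro _ ⟨i, hi, rfl⟩ y ⟨m, h1, h2, h3⟩
      exact ⟨_, Nat.mod_lt _ (by norm_num), d i hi.1 hi.2 m h1 h2, by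
        rw [Subgroup.coe_mul, a2_mul, h3, dv_mod]; exact (rep_xg i).app m⟩
    induction hg using Subgroup.closure_induction_left with
    | one => exact ⟨_, a, b, a2_one _⟩
    | mul_left x hx y _ ih => exact st x hx y ih
    | inv_mul_cancel x hx y _ ih =>
      obtain ⟨i, hi, rfl⟩ := hx
      rw [inv_eq_of_mul_eq_one_right (xo_sq i)]
      exact st _ ⟨i, hi, rfl⟩ y ih
  obtain ⟨m, h1, h2, h3⟩ := key _ h
  have := (rep_xg k).app (mk3 k)
  rw [← dv_mod (lin _ _)] at this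
  rw [dv_inj (Nat.mod_lt _ (by norm_num)) h1 (this.symm.trans h3)] at c
  exact c h2

end E8
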