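import Cfsg.Agent.E8.G

/-! Combinatorics of the affine group acting on sign vectors. -/

set_option autoImplicit false

namespace E8
open Matrix Equiv Cfsg

/-- the sign vector with a given code -/
def db (n : ℕ) : B8 := fun i => if n.testBit i then 1 else 0
/-- the code of a sign vector -/
def eb (v : B8) : ℕ := (v 0).val + 2 * (v 1).val + 4 * (v 2).val + 8 * (v 3).val + 16 * (v 4).val +
  32 * (v 5).val + 64 * (v 6).val + 128 * (v 7).val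
theorem db_eb : ∀ v : B8, eb v < 256 ∧ db (eb v) = v := by decide +kernel
theorem eb_db : ∀ n < 256, eb (db n) = n := by decide +kernel
theorem db_inj {m n : ℕ} (hm : m < 256) (hn : n < 256) (h : db m = db n) : m = n := by
  rw [← eb_db m hm, h, eb_db n hn]
theorem db_xor (a b : ℕ) : db (a ^^^ b) = db a + db b := funext fun k => by
  simp only [db, Nat.testBit_xor, Pi.add_apply]
  cases a.testBit k <;> cases b.testBit k <;> decide
theorem db_pow : ∀ i : Fin 8, db (2 ^ i.1) = bb i := by decide +kernel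
theorem db_zero : db 0 = 0 := by decide +kernel
theorem db_255 : db 255 = 1 := by decide +kernel
theorem xor_lt {a b : ℕ} (ha : a < 256) (hb : b < 256) : a ^^^ b < 256 :=
  Nat.xor_lt_two_pow (n := 8) ha hb

/-- generators of the affine group -/
def ag : ℕ → S8
  | 0 => om
  | 1 => swap 1 2 * swap 2 4 * (swap 4 3 * swap 3 6) * (swap 6 7 * swap 7 5)
  | _ => swap 2 3 * swap 6 7
theorem ag_spec (a : ℕ) : Aff (ag a) ∧ Perm.sign (ag a) = 1 := by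
  unfold Aff
  match a with
  | 0 => decide +kernel
  | 1 => decide +kernel
  | _ + 2 => exact (by decide +kernel : (∀ w, Cd w → Cd (pa (swap 2 3 * swap 6 7) w)) ∧
      Perm.sign (swap 2 3 * swap 6 7 : S8) = 1)
/-- words in the generators -/
def wp (l : List ℕ) : S8 := l.foldr (fun a m => ag a * m) 1
theorem wp_spec (l : List ℕ) : Aff (wp l) ∧ Perm.sign (wp l) = 1 := by
  induction l with
  | nil => exact ⟨aff_one, Perm.sign_one⟩
  | cons a l ih => exact ⟨(ag_spec a).1.mul ih.1, by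
      show Perm.sign (ag a * wp l) = 1
      rw [Perm.sign_mul, (ag_spec a).2, ih.2, one_mul]⟩

/-- table of types -/
def tT : ℕ := 0x8776766576656559766565546554544376656554655454436559544354439332766565546554544365545943549343326554549359434332544343324332322176656554655454436554549359434332655459435493433254434332433232216559544354439332544343324332322154434332433232219332322132212110
/-- the type of a coded vector -/
def tn (n : ℕ) : ℕ := tT >>> (4 * n) % 16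
/-- representatives of the types -/
def rp (t : ℕ) : ℕ := [0, 1, 3, 7, 23, 31, 252, 254, 255, 15].getD t 0
/-- words reaching all vectors -/
def wt2 : List (List ℕ) :=
  [[], [], [0], [], [1,0], [1], [2,0,1], [], [0,1,0], [2,1], [0,1], [0], [1,1,1,0,1,2,1],
  [1,1,2,1,1,1,0], [1,0,1,2,1,1,1], [], [1,1,0], [1,1], [1,1,0,1,2,1], [1,2,1,1,1,0], [1,2,0,1],
  [1], [1,2,0,1], [], [1,1,2,0,1], [1,1], [2,1,2,0,1], [2], [1,1,2,0,1], [1], [1,1,0,1,1], [],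
  [0,1,1,0], [1,1,1,2,1], [0,1,1], [1,2,1,2,1,0], [1,0,1,2,1], [2,1,1,1,0], [2,0,1], [2,0],
  [1,1,1,0,1], [1,1,1,0], [0,1], [0], [1,1,1,0,1,0], [1,1,1,0,1,0], [0,1], [0], [1,1,2,0,1,2,1],
  [1,2,1,1,1], [0,1,2,1,1,1], [1,2,1,1,1], [1,0,1,1,1], [2,1,1,1,0], [1,0,1,1], [1,1,1,1,1,1],
  [1,1,1,0,1], [1,1,1,0], [2,1,0,1,1], [1,2,1,2,1], [1,1,1,0,1], [1,1,1,0,1,0], [1,1,0,1,1],
  [1,1,1,1,2,0,1], [1,0,1,0], [1,2,1], [2,0,1,2,1], [1,1,1,1,0], [1,0,1], [1,0], [1,0,1], [1,0],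
  [1,1,1,2,0,1], [1,1,1], [2,0,1,1,1], [1,1,1,1,0], [1,2,1,2,0,1], [1,2], [2,0,1,2],
  [1,1,2,1,2,1], [2,1,1,0,1], [2,1,1,0], [2,1,1,0,1,0], [2,1,1,0,1,0], [2,0,1,0,1,0], [1],
  [1,0,1], [1,0], [2,1,1,0,1], [1,1], [2,1,1,0,1], [2,1,1,0,1,0], [2,1,1,0,1], [1], [2,1,1,0,1],
  [2,1,0,1,0,1], [1,0,1,0,1], [1,2,1,0], [0,1,1,0], [1,0,1,0,1], [1,0,1,0], [1,0,1,0], [1,0,1],
  [1,0,1,0], [0,1,1,0,1], [1,1,1], [0,1,1,0], [1,0,1,0,1], [0,1,1,0,1], [1,2,1,0], [2,0,1],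
  [1,1,0,1], [1,1,2,1,1,0,1,0], [1,2,1,2], [0,1,2,1,1,1], [1,2,1,2,1,0], [1,0,1,2], [2,0,1,0,1],
  [1,0,1], [0,1,0,1], [1,1,1,0,1], [1,2,1], [2,1,0,1,1], [1,2,0,1,2,1], [1,1,1,0,1], [0,1,2,1],
  [1,1,2,1], [0,1,0,1,0], [0,1,0,1,0], [1,1,2,1], [0,1,2,1], [1,1,2,1,0], [1,2,0,1,2,1],
  [2,1,1,1], [0,1,1,1], [0,1,1,1,1,0], [0,1,0,1], [2,1,0], [0,1,0], [0,1,0], [1,2,1,1,0,1,0],
  [2,1,2], [0,1,2], [1,1,2,1,2,1,0], [1,1,0,1], [1,1,0], [1,1,0,1,0], [1,1,0,1,0], [1,1,0,1],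
  [1,1,0], [1,1,0,1], [1,1,0,1,0], [0,1,0,1,0], [1,1], [2,1,0,1], [2,1,0], [1,1,0,1], [2,1],
  [1,1,0,1], [1,0,1,0,1], [2,1,0,1,0,1], [2,1,2,1,0], [2,0,1,1,0], [1,1,1,1,1], [2,0,1,1,0,1],
  [2,1,1,1], [0,1,1], [1,1,1,1,1], [2,1,0,1,0], [0,1,0,1], [0,1], [0,1,0], [2,0,1,1,0,1],
  [2,1,2,1,0], [0,1], [2,1,1,0,1], [1,1,2,0,1,1,1], [1,2,1,1,1], [0,1,2,1,2], [1,2,1,1,1],
  [1,0,1,1,1], [2,1,2,1], [1,0,1,1], [1,1,1,2,0,1], [0,1,0,1,2], [0,1,0,1], [2,1,0,1], [1,0,1],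
  [1,1,2,0,1], [2,0,1,2,1], [1,2,1], [1,0,1,0], [1,1,1,1,2,0,1], [1,1,1,1], [0,1,1,1,1],
  [1,1,1,1], [1,2,0,1,1,1], [2,1,1,1], [0,1,1,1], [0,1,1,2,1], [1,2,1,1,0,1], [1,1,1],
  [2,0,1,1,1], [1,1,2,1], [1,2,1,1,0,1], [1,2,1,1,0,1,0], [1,2,1,0,1,1], [1,1,2,0,1,2,1],
  [1,1,2,1,2,0,1], [1,1,2], [0,1,1,1,1], [1,1,2,1,0], [1,2,0,1,2], [2,1,1], [1,2,0,1],
  [1,1,1,0,1], [1,2,1,1,0,1], [1,1], [2,1,2,0,1], [1,0,1,2,1], [1,2,1,1,0,1], [0,1,1],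
  [1,1,1,2,1], [0,1,1,0], [1,1,2,1,1,0,1], [1,1,1,1], [0,1,1,2], [1,1,1,1], [1,2,0,1,1,1],
  [2,1,1,1], [0,1,1], [1,1,2,0,1], [0,1,2,0,1,2], [1,1,1], [2,0,1,1], [1,2,0,1], [1,2,1,2,0,1],
  [1,1,0,1,2,1], [1,1], [1,1,0], [1,1,2,1,1,0,1], [1,1,2,1,1,0,1,0], [1,1,2,1,2,0,1],
  [1,1,1,0,1,2,1], [1,1,2,1,0,1,1], [0,1], [2,1], [0,1,0], [1,1,2,1,1,0,1], [2,0,1], [1], [1,0],
  [], [0], [], []]
theorem wt2_spec : ∀ n < 256, tn n < 10 ∧ pa (wp (wt2.getD n [])) (db (rp (tn n))) = db n := by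
  decide +kernel
theorem aff_trans (v : B8) : ∃ t < 10, ∃ σ, Aff σ ∧ Perm.sign σ = 1 ∧ pa σ (db (rp t)) = v := by
  obtain ⟨a, b⟩ := db_eb v
  exact ⟨_, (wt2_spec _ a).1, _, (wp_spec _).1, (wp_spec _).2, (wt2_spec _ a).2.trans b⟩

/-- words for the linear maps -/
def wt3 : List (List ℕ) :=
  [[], [], [], [], [], [], [], [], [], [], [], [], [], [], [], [], [], [], [], [], [], [], [], [],
  [], [], [], [], [], [], [], [], [], [], [], [], [], [], [], [], [], [], [], [], [], [], [], [],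
  [], [], [], [], [], [], [], [], [], [], [], [], [], [], [], [], [], [], [], [], [], [], [], [],
  [], [], [], [], [], [], [], [], [], [], [], [], [], [1,1,1,2,1,1,1,2,1,1], [1,1,2,1,2,1,2],
  [2,1,1,2,1,2,1], [], [], [], [], [2], [1,1,1,2,1,2,1,1,1,1,1], [1,1,2,1,2,1], [2,1,1,2,1,2,1,2],
  [], [], [1,1,2,1,1,1,1,2], [1,1,1,2,1,1,1,1,1], [], [], [2,1,1,1,1,2,1,2], [1,1,1,1,2,1,2], [],
  [], [1,1,2,1,1,1,1], [2,1,1,2,1,1,1,1], [], [], [2,1,1,1,1,2,1], [1,1,1,1,2,1], [], [],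
  [1,2,1,2,1,1,1,1,2], [2,1,2,1,2,1,1,1,1], [2,1,1,2,1,1,1,2,1,1,1], [2,1,2,1,1,1,2,1], [], [],
  [], [], [1,2,1,2,1,1,1,1], [1,2,1,1,1,1,2,1,1], [1,1,2,1,1,1,2,1,1,1], [1,2,1,1,1,2,1], [], [],
  [], [], [], [], [], [], [], [], [], [], [], [], [1,1,1,2,1,1,1,1], [2,1,1,2,1,1,1],
  [2,1,2,1,2,1,1,1], [1,2,1,1,1,1,2,1], [], [], [], [], [], [], [], [], [], [], [], [],
  [1,1,1,2,1,1,1,1,2], [2,1,1,2,1,1,1,2], [2,1,2,1,2,1,1,1,2], [1,2,1,1,1,1,2,1,2], [],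
  [1,1,1,1,2,1,1,1,2,1,1], [], [1], [], [2,1,2,1,1], [], [1,1,1,2,1,2,1,2], [], [1,1,2,1,1,1,2,1],
  [], [2,1,1,2,1,2,1,1,2], [1,1,2,1,2,1,1,1,1], [], [2,1,1,1,2], [], [], [2,1,2,1,1,1,1,2,1,2,1],
  [], [1,2], [], [2,1,2,1,1,2], [], [1,1,1,2,1,2,1], [], [1,2,1,2,1,1,1,2,1], [],
  [2,1,1,2,1,2,1,1], [1,1,2,1,2,1,1,1,1,2], [], [2,1,1,1], [], [], [], [], [], [], [], [], [], [],
  [], [], [], [2,1,1,1,2,1,1,1,1], [1,1,2,1,1,1], [2,1,2,1,1,1,1,2,1], [1,2,1,2,1,1,1], [], [],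
  [], [], [1,1,1,1,2,1,1,1,2,1], [1,1,2,1,1,1,2], [2,1,2,1,1,1,1,2,1,2], [1,2,1,2,1,1,1,2], [],
  [], [], [], [], [], [], [], [], [1,1,1,2,1,1,1,1,2,1], [2,1], [], [], [1,2,1,1],
  [2,1,1,1,2,1,2,1,2], [], [], [2,1,1,2,1,1,1,2,1], [1,1,2,1,2,1,1,2], [], [2,1,1,2,1,2,1,1,1,1],
  [], [], [1,1,1,2], [], [2,1,2,1,2,1,1,1,2,1], [1,1,2,1,2,1,1], [], [1,2,1,1,1,1,2,1,1,1,1], [],
  [], [1,1,1], [], [1,2,1,1,1,1,2,1,2,1], [2,1,2], [], [], [1,2,1,1,2], [2,1,1,1,2,1,2,1], [], [],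
  [], [], [], [], [], [], [], [], [], [1,1,1,2,1,1,1,2,1], [1,1,1,2,1,2,1,1,1,1], [], [],
  [2,1,2,1,1,1,2], [1,2,1,1,1,2], [], [2,1,2,1,2,1,1], [], [1,1,1,1,2,1,1,1,1], [],
  [1,1,2,1,1,1,1,2,1], [], [2,1,1], [], [1,2,1,2,1,1], [2,1,1,1,1,2,1,1,1,1], [], [],
  [1,1,1,1,2,1,2,1,2], [1,1], [], [], [], [], [], [], [], [], [], [], [], [1,1,2,1,2,1,1,1,2,1],
  [2,1,1,2,1,2,1,1,1,2,1], [], [], [2,1,2,1,1,1], [1,2,1,1,1], [], [2,1,2,1,2,1,1,2], [],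
  [1,1,1,1,2,1,1,1,1,2], [], [2,1,1,1,1,2,1,2,1], [], [2,1,1,2], [], [1,2,1,2,1,1,2],
  [2,1,1,1,1,2,1,1,1,1,2], [], [], [1,1,1,1,2,1,2,1], [1,1,2], [], [], [], [], [], [], [], [], [],
  [], [], [1,1,1,1,1,1], [1,2,1,2,1,2], [], [], [2,1,1,2,1,1,1,2,1,1], [1,1,2,1,1,1,2,1,1], [],
  [1,2,1,1,1,1,2], [], [2,1,1,1,1,2,1,2,1,1,1], [1,1,2,1,1,1,1,1], [], [1,1,1,2,1,2], [], [],
  [2,1,2,1,1,1,1,2], [1,1,1,1,2,1,2,1,1,1], [], [2,1,1,2,1,1,1,1,1], [], [], [2,1,1,1,2,1,2], [],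
  [], [2,1,2,1,2,1], [1,2,1,2,1], [], [], [2,1,1,2,1,2,1,1,1,1,1], [1,1,2,1,2,1,1,1,1,1], [], [],
  [], [], [], [], [], [], [], [2,1,2,1,1,1,1], [1,2,1,1,1,2,1,1,1], [], [2,1,1,1,1,2,1,1], [], [],
  [2,1,1,1,2,1], [], [1,2,1,1,1,1], [], [2,1,2,1,1,1,2,1,1,1], [1,1,1,1,2,1,1], [], [1,1,1,2,1],
  [], [], [], [], [], [], [], [], [], [], [], [2,1,1,2,1,2], [2,1,2,1,1,1,1,1],
  [1,1,1,2,1,2,1,1,2], [1,1,1,1,2], [], [], [], [1,1,1,2,1,1,1], [], [1,2,1,1,1,2,1,1,1,1], [],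
  [1,1,2,1,2,1,1,1], [], [1,2,1,2,1,1,1,1,2,1], [], [1,1,2,1,1], [1,1,1,1,2,1,1,1,1,2,1], [],
  [1,2,1], [], [], [2,1,2,1,2,1,1,1,1,1], [], [1,1,1,2,1,1,1,2], [], [2,1,1,1,1,2,1,1,1], [],
  [1,1,2,1,2,1,1,1,2], [], [1,2,1,2,1,1,1,1,2,1,2], [], [2,1,1,1,1,1], [2,1,1,1,1,2,1,2,1,1], [],
  [1,2,1,2], [], [], [2,1,2,1,1,1,2,1,1], [], [], [], [], [], [], [], [], [], [], [2,1,1,2,1],
  [2,1,1,1,2,1,1], [1,1,1,2,1,2,1,1], [1,1,1,1], [], [], [], [], [], [], [], [], [], [], [], [],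
  [1,2,1,1,1,1,1], [1,1,2,1,2], [2,1,1,1,2,1,2,1,1,2], [2,1,1,1,1,2], [], [], [], [2,1,1,2,1,1],
  [], [1,1,1,1,2,1,2,1,1,2], [2,1,2,1], [], [1,2,1,2,1,1,1,1,1], [], [], [2,1,1,1,2,1,1,1],
  [1,1,1,1,2,1,1,1,2], [], [], [2,1,1,2,1,2,1,1,1], [1,2,1,1,1,1,2,1,1,1], [], [],
  [1,1,1,2,1,2,1,1,1], [1,1,1,1,2,1,1,1], [], [], [2,1,1,2,1,2,1,1,1,2], [1,1,2,1,1,1,2,1,1,1,1],
  [], [], [1,1,1,1,1], [], [1,1,1,1,2,1,2,1,1], [2,1,2,1,2], [], [1,2,1,1,1,2,1,1], [], [], [],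
  [1,1,1,2,1,1], [1,1,2,1], [2,1,1,1,2,1,2,1,1], [2,1,1,1,1], [], [], [], [], [], [], [], [], [],
  []]
/-- independence -/
def Ind (b c d : Fin 8) : Prop := b ≠ 0 ∧ c ≠ 0 ∧ c ≠ b ∧ d ≠ 0 ∧ d ≠ b ∧ d ≠ c ∧ d ≠ x3 0 b c
instance decInd (b c d : Fin 8) : Decidable (Ind b c d) := by unfold Ind; infer_instance
theorem wt3_spec : ∀ b c d, Ind b c d →
    ∀ i, wp (wt3.getD (64 * b.1 + 8 * c.1 + d.1) []) i = af 0 b c d i := by decide +kernel
theorem exists_lin {b c d : Fin 8} (h : Ind b c d) :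
    ∃ σ, Aff σ ∧ Perm.sign σ = 1 ∧ ∀ i, σ i = af 0 b c d i :=
  ⟨_, (wp_spec _).1, (wp_spec _).2, wt3_spec b c d h⟩
theorem exists_elation : ∀ i k : Fin 8, i ≠ 0 → k ≠ 0 → i ≠ k → ∃ b c d, Ind b c d ∧
    af 0 b c d i = i ∧ af 0 b c d k = k ∧ af 0 b c d (x3 0 i k) = x3 0 i k ∧
    ∃ m, af 0 b c d m ≠ m := by decide +kernel
theorem cd_x3 : ∀ a b c : Fin 8, a ≠ b → a ≠ c → b ≠ c →
    Cd (bb a + bb b + (bb c + bb (x3 a b c))) := by decide +kernel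
theorem span_four : ∀ p q r m : Fin 8, p ≠ 0 → q ≠ 0 → r ≠ 0 → p ≠ q → p ≠ r → q ≠ r →
    r ≠ x3 0 p q → m = 0 ∨ m = p ∨ m = q ∨ m = r ∨ m = x3 0 p q ∨ m = x3 0 p r ∨ m = x3 0 q r ∨
      m = x3 p q r := by decide +kernel
theorem Aff.fix {σ : S8} (h : Aff σ) {p q r : Fin 8} (h0 : σ 0 = 0) (hp : σ p = p) (hq : σ q = q)
    (hr : σ r = r) (n1 : p ≠ 0) (n2 : q ≠ 0) (n3 : r ≠ 0) (n4 : p ≠ q) (n5 : p ≠ r) (n6 : q ≠ r)
    (n7 : r ≠ E8.x3 0 p q) (m : Fin 8) : σ m = m := by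
  rcases span_four p q r m n1 n2 n3 n4 n5 n6 n7 with e | e | e | e | e | e | e | e <;> rw [e]
  · exact h0
  · exact hp
  · exact hq
  · exact hr
  · rw [h.x3 n1.symm n2.symm n4 (cd_x3 _ _ _ n1.symm n2.symm n4), h0, hp, hq]
  · rw [h.x3 n1.symm n3.symm n5 (cd_x3 _ _ _ n1.symm n3.symm n5), h0, hp, hr]
  · rw [h.x3 n2.symm n3.symm n6 (cd_x3 _ _ _ n2.symm n3.symm n6), h0, hq, hr]
  · rw [h.x3 n4 n5 n6 (cd_x3 _ _ _ n4 n5 n6), hp, hq, hr]

/-- displacement codes -/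
def dsp (f : Fin 8 → Fin 8) (i j : Fin 8) : ℕ :=
  (2 ^ i.1 ^^^ 2 ^ j.1) ^^^ (2 ^ (f i).1 ^^^ 2 ^ (f j).1)
theorem af_disp : ∀ a b c d : Fin 8, a ≠ b → a ≠ c → a ≠ d → (∀ i, af a b c d i = i) ∨ ∃ i j,
    frc (dsp (af a b c d) 0 i) fun u => frc (dsp (af a b c d) 0 j) fun w =>
      (u ≠ 0 ∧ u ≠ 255) ∧ (w ≠ 0 ∧ w ≠ 255) ∧ u ^^^ w ≠ 0 ∧ u ^^^ w ≠ 255 := by
  simp only [frc_eq]; decide +kernel
theorem Aff.disp {σ : S8} (h : Aff σ) {y : B8}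
    (k : ∀ v, Ev v → v + pa σ v = 0 ∨ v + pa σ v = 1 ∨ v + pa σ v = y ∨ v + pa σ v = y + 1) :
    σ = 1 := by
  have := af_disp (σ 0) (σ 1) (σ 2) (σ 4) (σ.injective.ne (by decide)) (σ.injective.ne (by decide))
    (σ.injective.ne (by decide))
  rw [← h.eq] at this
  refine this.elim (fun e => Equiv.ext e) fun ⟨i, j, a, b, c⟩ => False.elim ?_
  have e : ∀ i, db (dsp σ 0 i) = bb 0 + bb i + pa σ (bb 0 + bb i) := fun i => by
    simp only [dsp, db_xor, db_pow, pa_add, pa_bb]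
  have l : ∀ i, dsp σ 0 i < 256 := fun i => by
    have p : ∀ i : Fin 8, 2 ^ i.1 < 256 := by decide
    exact xor_lt (xor_lt (p _) (p _)) (xor_lt (p _) (p _))
  have n : ∀ {u}, u < 256 → u ≠ 0 ∧ u ≠ 255 → db u ≠ 0 ∧ db u ≠ 1 := fun hu a =>
    ⟨fun e => a.1 (db_inj hu (by norm_num) (e.trans db_zero.symm)),
      fun e => a.2 (db_inj hu (by norm_num) (e.trans db_255.symm))⟩
  have a1 := n (l i) a
  have b1 := n (l j) b
  have c1 := n (xor_lt (l i) (l j)) c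
  have k1 := k _ (ev_pair 0 i)
  have k2 := k _ (ev_pair 0 j)
  rw [db_xor] at c1
  rw [← e] at k1 k2
  simp only [a1, b1, false_or] at k1 k2
  rcases k1 with k1 | k1 <;> rcases k2 with k2 | k2 <;> rw [k1, k2] at c1
  · exact c1.1 (b8_add_self _)
  · exact c1.2 (by rw [← add_assoc, b8_add_self, zero_add])
  · exact c1.2 (by rw [add_right_comm, b8_add_self, zero_add])
  · exact c1.1 (b8_add_self _)

/-- a loop -/
def sumN (f : ℕ → ℕ) (n : ℕ) : ℕ := Nat.rec 0 (fun k r => f k + r) n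
theorem sumN_eq (f : ℕ → ℕ) (n : ℕ) : sumN f n = ∑ k ∈ Finset.range n, f k := by
  induction n with
  | zero => rfl
  | succ n ih => rw [Finset.sum_range_succ, ← ih]; exact add_comm (f n) (sumN f n)
/-- the mask of a union of types -/
def msk (T : ℕ) : ℕ := sumN (fun n => cond (T.testBit (tn n)) (2 ^ n) 0) 256
/-- the first invariant -/
def lam3 (M p : ℕ) : ℕ :=
  frc p fun p => sumN (fun y => cond (M.testBit y && M.testBit (p ^^^ y)) 1 0) 256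
/-- the second invariant -/
def lam4 (M p : ℕ) : ℕ := sumN (fun x => cond (M.testBit x) (lam3 M (p ^^^ x)) 0) 256
/-- a set of types -/
def tyM (a b c d e f : Bool) : ℕ := 256 + cond a 2 0 + cond b 128 0 + cond c 64 0 + cond d 8 0 +
  cond e 32 0 + cond f 16 0
/-- the test -/
def chk (T : ℕ) : Bool := frc T fun T => frc (msk T) fun M => T == 256 || T == 258 || T == 384 ||
  ([1, 7, 6, 3, 5, 4].any fun t => T.testBit t && lam3 M (rp t) != lam3 M 255) ||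
  ([1, 7, 6, 3, 5, 4].any fun t => T.testBit t && lam4 M (rp t) != lam4 M 255)
theorem chk_all : ∀ a b c d e f, chk (tyM a b c d e f) = true := by decide +kernel
theorem msk_all : ∀ a b c d e f, frc (tyM a b c d e f) (fun T => frc (msk T) fun M =>
    (List.range 256).all fun n => M.testBit n == T.testBit (tn n)) = true := by decide +kernel
theorem tyM_bits : ∀ a b c d e f, (List.range 10).map (tyM a b c d e f).testBit =
    [false, a, false, d, f, e, c, b, true, false] := by decide +kernel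

/-- the first invariant for sets -/
def L3 (S : Finset B8) (p : B8) : ℕ := (S.filter fun y => p + y ∈ S).card
/-- the second invariant for sets -/
def L4 (S : Finset B8) (p : B8) : ℕ := ∑ x ∈ S, L3 S (p + x)

theorem sum_db {S : Finset B8} {M : ℕ} (h : ∀ n < 256, db n ∈ S ↔ M.testBit n) (F : B8 → ℕ) :
    ∑ x ∈ S, F x = sumN (fun n => cond (M.testBit n) (F (db n)) 0) 256 := by
  rw [sumN_eq]
  simp only [Bool.cond_eq_ite]
  rw [← Finset.sum_filter]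
  refine (Finset.sum_nbij db (fun n hn => ?_) (fun m hm n hn => ?_) (fun v hv => ?_)
    fun _ _ => rfl).symm
  · rw [Finset.mem_filter, Finset.mem_range] at hn
    exact (h n hn.1).2 hn.2
  · simp only [Finset.coe_filter, Finset.mem_range, Set.mem_ofPred_eq] at hm hn
    exact db_inj hm.1 hn.1
  · obtain ⟨a, b⟩ := db_eb v
    exact ⟨eb v, by
      simp only [Finset.coe_filter, Finset.mem_range, Set.mem_ofPred_eq]
      exact ⟨a, (h _ a).1 (by rwa [b])⟩, b⟩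

theorem L3_eq {S : Finset B8} {M : ℕ} (h : ∀ n < 256, db n ∈ S ↔ M.testBit n) {p : ℕ}
    (hp : p < 256) : L3 S (db p) = lam3 M p := by
  rw [L3, Finset.card_filter, sum_db h, lam3, frc_eq, sumN_eq, sumN_eq]
  refine Finset.sum_congr rfl fun n hn => ?_
  rw [← db_xor]
  simp only [h _ (xor_lt hp (Finset.mem_range.1 hn))]
  cases M.testBit n <;> cases M.testBit (p ^^^ n) <;> rfl
theorem L4_eq {S : Finset B8} {M : ℕ} (h : ∀ n < 256, db n ∈ S ↔ M.testBit n) {p : ℕ}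
    (hp : p < 256) : L4 S (db p) = lam4 M p := by
  rw [L4, sum_db h, lam4, sumN_eq, sumN_eq]
  refine Finset.sum_congr rfl fun n hn => ?_
  rw [← db_xor, L3_eq h (xor_lt hp (Finset.mem_range.1 hn))]

/-- groups of additive maps containing the affine group -/
structure Gam (E : B8 → Prop) (Γ : (B8 → B8) → Prop) : Prop where
  ev : ∀ v, Ev v → E v
  eadd : ∀ x y, E x → E y → E (x + y)
  map : ∀ g, Γ g → ∀ x, E x → E (g x)
  add : ∀ g, Γ g → ∀ x y, E x → E y → g (x + y) = g x + g y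
  comp : ∀ g h, Γ g → Γ h → Γ (g ∘ h)
  inv : ∀ g, Γ g → ∃ h, Γ h ∧ (∀ x, E x → h (g x) = x) ∧ ∀ x, E x → g (h x) = x
  aff : ∀ σ, Aff σ → Perm.sign σ = 1 → Γ (pa σ)
  stab : ∀ g, Γ g → g 1 = 1 → ∃ σ, ∃ ε : ZMod 2, Aff σ ∧
    ∀ x, E x → g x = pa σ x + (ε * ∑ i, x i) • (1 : B8)

variable {E : B8 → Prop} {Γ : (B8 → B8) → Prop}

theorem Gam.zero (h : Gam E Γ) {g : B8 → B8} (hg : Γ g) : g 0 = 0 := by
  have := h.add g hg 0 0 (h.ev _ ev_zero) (h.ev _ ev_zero)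
  rwa [add_zero, b8_add_self] at this
theorem Gam.inj (h : Gam E Γ) {g : B8 → B8} (hg : Γ g) {x y : B8} (hx : E x) (hy : E y)
    (e : g x = g y) : x = y := by
  obtain ⟨k, -, a, -⟩ := h.inv g hg
  rw [← a x hx, e, a y hy]

theorem Gam.not_small (h : Gam E Γ) {g : B8 → B8} (hg : Γ g) : g 1 ≠ db 3 ∧ g 1 ≠ db 15 := by
  have x1 : Aff (swap 0 1 * swap 2 3) := by unfold Aff; decide +kernel
  have x2 := h.aff _ x1 (by decide)
  have x3 : ∀ v : B8, v + pa (swap 0 1 * swap 2 3) v = 0 ∨ v + pa (swap 0 1 * swap 2 3) v = db 3 ∨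
      v + pa (swap 0 1 * swap 2 3) v = db 12 ∨ v + pa (swap 0 1 * swap 2 3) v = db 15 := by
    decide +kernel
  obtain ⟨k, hk, a, b⟩ := h.inv g hg
  have e1 := h.ev _ ev_one
  have key : ∀ p, (p = db 3 ∨ p = db 15) → g 1 ≠ p := fun p hp e => by
    have k1 : k p = 1 := by rw [← e, a _ e1]
    obtain ⟨σ, ε, s, t⟩ := h.stab _ (h.comp _ _ hk (h.comp _ _ x2 hg)) (by
      show k (pa _ (g 1)) = 1
      rw [e, show pa (swap 0 1 * swap 2 3) p = p by rcases hp with rfl | rfl <;> decide +kernel, k1])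
    have d : ∀ v, E v → v + (k ∘ pa (swap 0 1 * swap 2 3) ∘ g) v =
        k (g v + pa (swap 0 1 * swap 2 3) (g v)) := fun v hv => by
      rw [h.add k hk _ _ (h.map g hg v hv) (h.map _ x2 _ (h.map g hg v hv)), a v hv]; rfl
    have e3 := h.ev (db 3) (by decide +kernel)
    have e12 := h.ev (db 12) (by decide +kernel)
    have e15 : k (db 15) = k (db 3) + k (db 12) := by
      rw [← h.add k hk _ _ e3 e12]; congr 1; decide +kernel
    have s1 : σ = 1 := s.disp (y := k (db 12)) fun v hv => by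
      have := d v (h.ev v hv)
      rw [t v (h.ev v hv), hv, mul_zero, zero_smul, add_zero] at this
      rw [this]
      rcases x3 (g v) with c | c | c | c <;> rw [c]
      · exact .inl (h.zero hk)
      · rcases hp with rfl | rfl
        · exact .inr (.inl k1)
        · rw [← k1, e15, add_comm (k (db 3)), ← add_assoc, b8_add_self, zero_add]; simp
      · simp
      · rcases hp with rfl | rfl
        · rw [e15, k1, add_comm]; simp
        · exact .inr (.inl k1)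
    have ew := h.ev (db 20) (by decide +kernel)
    have := d _ (h.map k hk _ ew)
    rw [t _ (h.map k hk _ ew), s1, pa_one, ← add_assoc, b8_add_self, zero_add, b _ ew,
      show db 20 + pa (swap 0 1 * swap 2 3) (db 20) = db 12 by decide +kernel] at this
    rcases z2 (ε * ∑ i, k (db 20) i) with c | c <;> rw [c] at this
    · rw [zero_smul, ← h.zero hk] at this
      exact absurd (h.inj hk (h.ev _ ev_zero) e12 this) (by decide +kernel)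
    · rw [one_smul, ← k1] at this
      have := h.inj hk (e ▸ h.map g hg _ e1) e12 this
      rcases hp with rfl | rfl <;> exact absurd this (by decide +kernel)
  exact ⟨key _ (.inl rfl), key _ (.inr rfl)⟩

theorem Gam.nine (h : Gam E Γ) (δ : ZMod 2)
    (hO : ∀ g, Γ g → g 1 = 1 ∨ ∃ i, g 1 = bb i + δ • 1) {g : B8 → B8} (hg : Γ g) : g 1 = 1 := by
  by_contra hn
  obtain ⟨u, hu⟩ : ∃ u : Fin 8 → B8, ∀ i, u i = bb i + δ • 1 := ⟨_, fun _ => rfl⟩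
  simp only [← hu] at hO
  have u1 : ∀ i, u i ≠ 1 ∧ ∑ k, u i k = 1 ∧ ∀ j, (u i = u j → i = j) ∧ u i + 1 ≠ u j ∧
      u i + 1 ≠ 1 := by
    simp only [hu]; clear * -; revert δ; decide +kernel
  have u2 : ∀ σ i, pa σ (u i) = u (σ i) := fun σ i => by
    rw [hu, hu, pa_add, pa_bb]; rfl
  have e1 := h.ev _ ev_one
  have tr : ∀ i j : Fin 8, ∃ σ, Aff σ ∧ Perm.sign σ = 1 ∧ σ i = j := fun i j => by
    have : ∀ i : Fin 8, wp (wt2.getD (2 ^ i.1) []) 0 = i := by decide +kernel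
    refine ⟨wp (wt2.getD (2 ^ j.1) []) * (wp (wt2.getD (2 ^ i.1) []))⁻¹,
      (wp_spec _).1.mul (wp_spec _).1.inv, by simp [(wp_spec _).2], ?_⟩
    rw [Perm.mul_apply, Perm.inv_eq_iff_eq.2 (this i).symm, this]
  have o : ∀ j, ∃ g, Γ g ∧ g 1 = u j := fun j => by
    obtain ⟨i, e⟩ := (hO g hg).resolve_left hn
    obtain ⟨σ, a, b, rfl⟩ := tr i j
    exact ⟨_, h.comp _ _ (h.aff σ a b) hg, by rw [Function.comp_apply, e, u2]⟩
  have eu : ∀ j, E (u j) := fun j => by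
    obtain ⟨g, a, b⟩ := o j
    exact b ▸ h.map g a _ e1
  have o2 : ∀ g, Γ g → ∀ j, g (u j) = 1 ∨ ∃ i, g (u j) = u i := fun g hg j => by
    obtain ⟨k, a, b⟩ := o j
    rw [← b]; exact hO _ (h.comp _ _ hg a)
  have st : ∀ g, Γ g → g 1 = 1 → ∃ σ, Aff σ ∧ ∀ i, g (u i) = u (σ i) := fun g hg e => by
    obtain ⟨σ, ε, a, b⟩ := h.stab g hg e
    refine ⟨σ, a, fun i => ?_⟩
    have c := b _ (eu i)
    rw [(u1 i).2.1, mul_one, u2] at c
    rcases z2 ε with rfl | rfl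
    · rwa [zero_smul, add_zero] at c
    · rw [one_smul] at c
      rcases o2 g hg i with d | ⟨j, d⟩ <;> rw [c] at d
      · exact absurd d ((u1 _).2.2 i).2.2
      · exact absurd d ((u1 _).2.2 j).2.1
  obtain ⟨g, hg, g1, g2⟩ : ∃ g, Γ g ∧ g 1 = u 0 ∧ g (u 0) = 1 := by
    obtain ⟨g, hg, e⟩ := o 0
    obtain ⟨k, hk, a, b⟩ := h.inv g hg
    rcases hO k hk with c | ⟨j, c⟩
    · have := b 1 e1
      rw [c, e] at this
      exact absurd this (u1 0).1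
    obtain ⟨σ, s, t, rfl⟩ := tr 0 j
    exact ⟨_, h.comp _ _ hg (h.aff σ s t), e, by rw [Function.comp_apply, u2, ← c, b 1 e1]⟩
  obtain ⟨k, hk, k1, k2⟩ := h.inv g hg
  have ex : ∀ i, ∃ j, (i = 0 → j = 0) ∧ (i ≠ 0 → g (u i) = u j) := fun i => by
    by_cases a : i = 0
    · exact ⟨0, fun _ => rfl, fun b => absurd a b⟩
    rcases o2 g hg i with c | ⟨j, c⟩
    · exact absurd (((u1 _).2.2 _).1 (h.inj hg (eu _) (eu _) (c.trans g2.symm))) a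
    · exact ⟨j, fun b => absurd b a, fun _ => c⟩
  choose γ γ0 γ1 using ex
  have γ2 : ∀ i, i ≠ 0 → γ i ≠ 0 := fun i a b => (u1 i).1 (h.inj hg (eu _) e1 (by
    rw [γ1 i a, b, g1]))
  have γ3 : ∀ i j, i ≠ 0 → j ≠ 0 → i ≠ j → γ i ≠ γ j := fun i j a b c d =>
    c (((u1 _).2.2 _).1 (h.inj hg (eu _) (eu _) (by rw [γ1 i a, γ1 j b, d])))
  have γ4 : ∀ i j, i ≠ 0 → j ≠ 0 → i ≠ j → γ (x3 0 i j) = x3 0 (γ i) (γ j) := fun i j a b c => by
    obtain ⟨p, q, r, d, f1, f2, f3, m, f4⟩ := exists_elation i j a b c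
    obtain ⟨x, s, t, w⟩ := exists_lin d
    simp only [← w] at f1 f2 f3 f4
    have f0 : x 0 = 0 := w 0
    obtain ⟨σ, y, z⟩ := st _ (h.comp _ _ hg (h.comp _ _ (h.aff x s t) hk)) (by
      show g (pa x (k 1)) = 1
      rw [← g2, k1 _ (eu 0), u2, f0])
    have z1 : ∀ l, l ≠ 0 → x l = l → σ (γ l) = γ l := fun l a b => ((u1 _).2.2 _).1 (by
      rw [← z, ← γ1 l a]
      show g (pa x (k _)) = _
      rw [k1 _ (eu l), u2, b])
    have z0 : σ 0 = 0 := ((u1 _).2.2 _).1 (by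
      rw [← z, ← g1]
      show g (pa x (k _)) = _
      rw [k1 _ e1, pa_ones])
    obtain ⟨n1, n2, n3⟩ : x3 0 i j ≠ 0 ∧ i ≠ x3 0 i j ∧ j ≠ x3 0 i j := by
      clear * - a b c; revert i j; decide
    by_contra hc
    have fx := y.fix z0 (z1 i a f1) (z1 j b f2) (z1 _ n1 f3) (γ2 i a) (γ2 j b) (γ2 _ n1)
      (γ3 i j a b c) (γ3 _ _ a n1 n2) (γ3 _ _ b n1 n3) hc
    have m0 : m ≠ 0 := fun e => f4 (by rw [e, f0])
    have := z (γ m)
    rw [fx, ← γ1 m m0] at this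
    have : g (pa x (k (g (u m)))) = g (u m) := this
    rw [k1 _ (eu m), u2] at this
    exact f4 (((u1 _).2.2 _).1 (h.inj hg (eu _) (eu _) this))
  have r3 : γ 3 = x3 0 (γ 1) (γ 2) := γ4 1 2 (by decide) (by decide) (by decide)
  obtain ⟨σ, s, t, w⟩ := exists_lin (b := γ 1) (c := γ 2) (d := γ 4) ⟨γ2 _ (by decide),
    γ2 _ (by decide), γ3 _ _ (by decide) (by decide) (by decide), γ2 _ (by decide),
    γ3 _ _ (by decide) (by decide) (by decide), γ3 _ _ (by decide) (by decide) (by decide),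
    r3 ▸ γ3 _ _ (by decide) (by decide) (by decide)⟩
  have w1 : ∀ i, γ i = σ i := fun i => by
    rw [w]
    fin_cases i
    · exact γ0 0 rfl
    · rfl
    · rfl
    · exact r3
    · rfl
    · exact γ4 1 4 (by decide) (by decide) (by decide)
    · exact γ4 2 4 (by decide) (by decide) (by decide)
    · have := γ4 3 4 (by decide) (by decide) (by decide)
      rw [r3] at this
      refine this.trans ?_
      show _ = x3 (γ 1) (γ 2) (γ 4)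
      generalize γ 1 = a, γ 2 = b, γ 4 = c
      revert a b c; decide +kernel
  have hg' := h.comp _ _ (h.aff σ⁻¹ s.inv (by simp [t])) hg
  have a1 : (pa σ⁻¹ ∘ g) 1 = u 0 := by
    rw [Function.comp_apply, g1, u2, show σ⁻¹ 0 = 0 from Perm.inv_eq_iff_eq.2 (w 0).symm]
  have a2 : (pa σ⁻¹ ∘ g) (u 0) = 1 := by rw [Function.comp_apply, g2, pa_ones]
  have a3 : ∀ i, i ≠ 0 → (pa σ⁻¹ ∘ g) (u i) = u i := fun i a => by
    rw [Function.comp_apply, γ1 i a, w1, u2]; simp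
  generalize pa σ⁻¹ ∘ g = G at hg' a1 a2 a3
  have ho := h.aff om (ag_spec 0).1 (ag_spec 0).2
  obtain ⟨τ, y, z⟩ := st _ (h.comp _ _ hg' (h.comp _ _ ho (h.comp _ _ hg' (h.comp _ _ ho hg')))) (by
    simp only [Function.comp_apply]
    rw [a1, u2, a3 _ (om_ne 0), u2, om_om, a2])
  simp only [Function.comp_apply] at z
  have z0 : τ 0 = 1 := ((u1 _).2.2 _).1 (by
    rw [← z, a2, pa_ones, a1, u2, a3 _ (om_ne 0)]; rfl)
  have z1 : ∀ i, i ≠ 0 → om i ≠ 0 → τ i = i := fun i a b => ((u1 _).2.2 _).1 (by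
    rw [← z, a3 i a, u2, a3 _ b, u2, om_om, a3 i a])
  have := y.x3 (a := 0) (b := 2) (c := 4) (d := 6) (by decide) (by decide) (by decide) (by decide)
  rw [z0, z1 2 (by decide) (by decide), z1 4 (by decide) (by decide), z1 6 (by decide) (by decide)]
    at this
  exact absurd this (by decide)

theorem Gam.fix (h : Gam E Γ) {g : B8 → B8} (hg : Γ g) : g 1 = 1 := by
  classical
  obtain ⟨S, hS⟩ : ∃ S : Finset B8, ∀ p, p ∈ S ↔ ∃ g, Γ g ∧ g 1 = p :=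
    ⟨Finset.univ.filter fun p => ∃ g, Γ g ∧ g 1 = p, by simp⟩
  have e1 := h.ev _ ev_one
  have s1 : ∀ g, Γ g → ∀ p ∈ S, g p ∈ S := fun g hg p hp => by
    obtain ⟨k, a, rfl⟩ := (hS p).1 hp
    exact (hS _).2 ⟨_, h.comp _ _ hg a, rfl⟩
  have s2 : ∀ p ∈ S, E p := fun p hp => by
    obtain ⟨k, a, rfl⟩ := (hS p).1 hp
    exact h.map k a _ e1
  have l3 : ∀ g, Γ g → ∀ q, E q → L3 S q ≤ L3 S (g q) := fun g hg q hq =>
    Finset.card_le_card_of_injOn g (fun y hy => by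
      simp only [Finset.coe_filter, Set.mem_ofPred_eq] at hy ⊢
      exact ⟨s1 g hg _ hy.1, by rw [← h.add g hg _ _ hq (s2 _ hy.1)]; exact s1 g hg _ hy.2⟩)
      fun x hx y hy => h.inj hg (s2 _ (Finset.mem_filter.1 hx).1) (s2 _ (Finset.mem_filter.1 hy).1)
  have l4 : ∀ g, Γ g → ∀ q, E q → L4 S q ≤ L4 S (g q) := fun g hg q hq =>
    calc L4 S q ≤ ∑ x ∈ S, L3 S (g q + g x) := Finset.sum_le_sum fun x hx => by
          rw [← h.add g hg _ _ hq (s2 _ hx)]; exact l3 g hg _ (h.eadd _ _ hq (s2 _ hx))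
      _ = ∑ y ∈ S.image g, L3 S (g q + y) :=
          (Finset.sum_image (f := fun y => L3 S (g q + y))
            fun x hx y hy => h.inj hg (s2 _ hx) (s2 _ hy)).symm
      _ ≤ _ := Finset.sum_le_sum_of_subset (Finset.image_subset_iff.2 (s1 g hg))
  have l5 : ∀ p ∈ S, L3 S p = L3 S 1 ∧ L4 S p = L4 S 1 := fun p hp => by
    obtain ⟨g, a, rfl⟩ := (hS p).1 hp
    obtain ⟨k, b, c, -⟩ := h.inv g a
    have m := h.map g a _ e1
    have k3 := l3 k b _ m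
    have k4 := l4 k b _ m
    rw [c 1 e1] at k3 k4
    exact ⟨le_antisymm k3 (l3 g a _ e1), le_antisymm k4 (l4 g a _ e1)⟩
  obtain ⟨T, a, b, c, d, e, f, hT, bits⟩ : ∃ T a b c d e f, T = tyM a b c d e f ∧
      ∀ t < 10, db (rp t) ∈ S ↔ T.testBit t := by
    refine ⟨_, decide (db (rp 1) ∈ S), decide (db (rp 7) ∈ S), decide (db (rp 6) ∈ S),
      decide (db (rp 3) ∈ S), decide (db (rp 5) ∈ S), decide (db (rp 4) ∈ S), rfl, fun t ht => ?_⟩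
    have := congrArg (fun l => l.getD t false) (tyM_bits (decide (db (rp 1) ∈ S))
      (decide (db (rp 7) ∈ S)) (decide (db (rp 6) ∈ S)) (decide (db (rp 3) ∈ S))
      (decide (db (rp 5) ∈ S)) (decide (db (rp 4) ∈ S)))
    rw [List.getD_eq_getElem _ _ (by simpa using ht), List.getElem_map, List.getElem_range] at this
    rw [this, hS]
    interval_cases t
    · simp only [List.getD_cons_zero, Bool.false_eq_true, iff_false]
      rintro ⟨g, a, b⟩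
      exact absurd (h.inj a e1 (h.ev _ ev_zero) (b.trans (db_zero.trans (h.zero a).symm)))
        (by decide)
    · simp [hS]
    · exact iff_of_false (fun ⟨g, a, b⟩ => (h.not_small a).1 b) Bool.false_ne_true
    · simp [hS]
    · simp [hS]
    · simp [hS]
    · simp [hS]
    · simp [hS]
    · simpa using ⟨pa 1, h.aff 1 aff_one Perm.sign_one, db_255.symm⟩
    · exact iff_of_false (fun ⟨g, a, b⟩ => (h.not_small a).2 b) Bool.false_ne_true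
  have mem : ∀ n < 256, db n ∈ S ↔ T.testBit (tn n) := fun n hn => by
    obtain ⟨a, b⟩ := wt2_spec n hn
    rw [← bits _ a, ← b]
    refine ⟨fun c => ?_, s1 _ (h.aff _ (wp_spec _).1 (wp_spec _).2) _⟩
    have := s1 _ (h.aff _ (wp_spec (wt2.getD n [])).1.inv (by
      rw [Perm.sign_inv, (wp_spec _).2])) _ c
    rwa [pa_inv_pa] at this
  have mem' : ∀ n < 256, db n ∈ S ↔ (msk T).testBit n := fun n hn => by
    have := msk_all a b c d e f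
    rw [← hT, frc_eq, frc_eq, List.all_eq_true] at this
    rw [mem n hn, beq_iff_eq.1 (this n (List.mem_range.2 hn))]
  have fin : ∀ δ : ZMod 2, (∀ n < 256, T.testBit (tn n) → db n = 1 ∨ ∃ i, db n = bb i + δ • 1) →
      g 1 = 1 := fun δ k => h.nine δ (fun g hg => by
    obtain ⟨a, b⟩ := db_eb (g 1)
    rw [← b]
    exact k _ a ((mem _ a).1 (by rw [b]; exact (hS _).2 ⟨g, hg, rfl⟩))) hg
  have ck := chk_all a b c d e f
  rw [← hT, chk, frc_eq, frc_eq] at ck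
  simp only [Bool.or_eq_true, beq_iff_eq, List.any_eq_true, Bool.and_eq_true, bne_iff_ne] at ck
  have lt : ∀ t ∈ [1, 7, 6, 3, 5, 4], t < 10 ∧ rp t < 256 := by decide
  rcases ck with (((ck | ck) | ck) | ⟨t, t1, t2, t3⟩) | ⟨t, t1, t2, t3⟩
  · exact fin 0 (by rw [ck]; decide +kernel)
  · exact fin 0 (by rw [ck]; decide +kernel)
  · exact fin 1 (by rw [ck]; decide +kernel)
  · rw [← L3_eq mem' (lt t t1).2, ← L3_eq mem' (by norm_num), db_255] at t3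
    exact absurd (l5 _ ((bits t (lt t t1).1).2 t2)).1 t3
  · rw [← L4_eq mem' (lt t t1).2, ← L4_eq mem' (by norm_num), db_255] at t3
    exact absurd (l5 _ ((bits t (lt t t1).1).2 t2)).2 t3

end E8
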